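import Cfsg.Agent.TH.Cl.FldSO.Sp

/-!
# S3541, symplectic and orthogonal groups: no invariant commutative subring (helper94)

`boxFldSp`, `boxFldO`.
-/

set_option autoImplicit false
set_option linter.unusedSectionVars false

namespace Cfsg.Agent.TH.Cl

open Cfsg.Agent.DS.Cl Cfsg.Agent.DS.Cl.Fwd Cfsg.Agent.SB.Cl Cfsg.Agent.SB.C2 Cfsg.Agent.TH.Cl.Fld Module
open scoped commutatorElement

namespace FSO

local notation "cA" => Cfsg.Agent.DS.Cl.cj

variable {K V : Type} [Field K] [Fintype K] [AddCommGroup V] [Module K V] [Finite V] [Nontrivial V] {h : HF K V}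
  {F : FR h.EB} {G H : Subgroup (RingAut h.EB)} {m p : ℕ} {s κ : K}

theorem comm_fix {A : Type} [Ring A] [Finite A] {W : Subring A} (hW : IsF W) {γ δ : RingAut A} {M : Subgroup (RingAut A)}
    (hM : Inv M W) (hγ : γ ∈ M) (hδ : δ ∈ M) : ⁅γ, δ⁆ ∈ DS.Cl.Fix (W : Set A) := fun x hx => by
  rw [commutatorElement_def, ra_mul, ra_mul, ra_mul, comm_on_dom W hW.comm (fun _ => hW.isUnit) (hM γ hγ)
    (hM δ hδ) _ (hM _ (inv_mem hγ) _ (hM _ (inv_mem hδ) x hx)), ra_apply_inv, ra_apply_inv]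

theorem alg_cen (c : K) : h.eb (algebraMap K (End K V) c) ∈ Subring.center h.EB := by
  rw [Algebra.algebraMap_eq_smul_one]
  exact h.smul_mem_center c

variable (h F H p) in
/-- an invariant field of prime degree -/
def Ex (P : Prop) : Prop := ∃ (E : Type) (_ : Field E) (_ : Fintype E) (_ : DecidableEq E) (_ : Algebra K E) (_ : Module E V)
  (_ : IsScalarTower K E V) (f : FE h E) (l : h.EB), f.Dat F p l ∧ Inv H f.ι.range ∧
    (finrank K E = 2 ∨ (P ∧ ∀ θ, f.σ θ = θ))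

theorem setup (c : Ctx F G H m p) (hI : Irr1 H) {W : Subring h.EB} (hW : IsF W) (h1 : ComSub W) (hi : Inv H W) {r : ℕ}
    (hr : r.Prime) (hc : Nat.card W = Nat.card K ^ r) {P : Prop} (hs : r = 2 ∨ (P ∧ ∀ x ∈ W, star x = x)) :
    Ex h F H p P := by
  classical
  have := c.ss.nontrivial
  let := hW.isField.toField
  have := Fintype.ofFinite W
  let : Algebra K W := (RingHom.codRestrict (R := K) (S := h.EB) (algebraMap K (End K V)) W
    fun c => h1.1 (alg_cen c)).toAlgebra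
  let : Module W V := Module.compHom V (show W →+* End K V from W.subtype)
  have : IsScalarTower K W V := ⟨fun _ _ _ => rfl⟩
  let f : FE h W :=
    { ι := W.subtype
      σ :=
        { toFun := fun z => ⟨star z, h1.2.1 _ z.2⟩
          map_one' := Subtype.ext (star_one _)
          map_mul' := fun x y => Subtype.ext ((star_mul x.1 y.1).trans (hW.comm _ (h1.2.1 _ y.2) _ (h1.2.1 _ x.2)))
          map_zero' := Subtype.ext (star_zero _)
          map_add' := fun x y => Subtype.ext (star_add x.1 y.1) }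
      ap_ι := fun _ _ => rfl
      star_ι := fun _ => rfl }
  have e : f.ι.range = W := W.range_subtype
  have h2 : finrank K W = r := Nat.pow_right_injective (Finite.one_lt_card (α := K))
    ((Module.natCard_eq_pow_finrank (K := K) (V := W)).symm.trans hc)
  obtain ⟨B, -, b1, b2⟩ := exists_bd_fld c.ss F c.H_le_Aut hI.1 hI.2 h1.2.1 h1.2.2 hi
  refine ⟨W, _, inferInstance, inferInstance, _, _, inferInstance, f, B.l, ⟨?_, by rw [FE.C, e]; exact (b1 _).1 B.l_mem, b2, h2 ▸ hr⟩, e.symm ▸ hi,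
    hs.imp h2.trans fun hs => ⟨hs.1, fun θ => Subtype.ext (hs.2 _ θ.2)⟩⟩
  rw [e]
  refine allSyl c hi (fun hS => ?_) fun M hM => ?_
  · have h3 : W ≤ Subring.center h.EB := fun z hz => FR.cen_of_S c.span fun s hs =>
      Subgroup.commutator_le.2 (fun _ hγ _ hδ => comm_fix hW hS hγ hδ) (perfect_of_simple c.simple c.noncomm hs) z hz
    have h4 := card_le_of_le h3
    rw [hc, card_center (A := h.EB) (RingEquiv.refl (End K V))] at h4
    exact h4.not_gt (by simpa using Nat.pow_lt_pow_right (Finite.one_lt_card (α := K)) hr.one_lt)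
  · have h3 : Inv M W := fun γ hγ => hi γ (hM hγ).1
    let φ : M →* (W ≃ₐ[K] W) :=
      { toFun := fun γ => AlgEquiv.ofRingEquiv (f := resW W h3 γ) fun c => Subtype.ext
          (F.PI_le_Lin (F.S_le_PI (hM γ.2).2) _ (alg_cen c))
        map_one' := rfl
        map_mul' := fun _ _ => rfl }
    rw [Subgroup.relIndex, ← IsGalois.card_aut_eq_finrank, show (DS.Cl.Fix (W : Set h.EB)).subgroupOf M = φ.ker from
      Subgroup.ext fun γ => (resW_eq_one h3).symm.trans ⟨fun e => AlgEquiv.ext (RingEquiv.congr_fun e),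
        fun e => RingEquiv.ext (AlgEquiv.congr_fun e)⟩, Subgroup.index_ker]
    exact Subgroup.card_le_card_group _

variable (o : SO h F s κ) (c : Ctx F G H m p) (hI : Irr1 H)
  (hp : ∀ ε : h.EB, Inv H {ε, star ε} → ε * ε = ε → ε + star ε = 1 → False)
include o c hI hp

omit c hI hp in
theorem cen_sym {z : h.EB} (hz : z ∈ Subring.center h.EB) : star z = z := by
  obtain ⟨c, hc⟩ := SB.Tor.exists_sc h hz
  exact h.ap_ext fun y => h.ext_right fun x => by rw [h.b_star, hc, hc, h.smul_left, h.smul_right, o.tau]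

theorem ex_two {Z : Subring h.EB} (hZ : ComSub Z) (hi : Inv H Z) (hn : ∃ z ∈ Z, star z ≠ z) (P : Prop) :
    Ex h F H p P := by
  have := c.ss.nontrivial
  have hs := ss_of_inv c.ss c.le_SAut hI.1 hI.2 hZ.2.1 hi
  set B := Blk.ofSubring Z hZ.2.1
  have h1 : ∀ x : B.T, x ∈ Subring.center B.T := fun x => B.mem_center_iff.2 fun y hy => hZ.2.2 y hy _ (B.val_mem x)
  have h2 : IsF Z := ⟨hZ.2.2, fun x hx h0 => by
    refine (Blk.isUnit_val (hs.isUnit_of_not_eps (fun ⟨ε, hε⟩ => ?_) (h1 (B.mk' x hx))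
      fun e => h0 (congrArg B.val e))).imp fun y hy => ⟨hy.1, hy.2.1⟩
    have a1 : B.val ε * B.val ε = B.val ε := congrArg B.val hε.idem
    have a2 : B.val ε + star (B.val ε) = 1 := congrArg B.val hε.add
    have a3 : ∀ γ ∈ H, γ (B.val ε) = B.val ε ∨ γ (B.val ε) = star (B.val ε) := fun γ hγ =>
      (hs.eps_unique hε (ε' := B.mk' _ (hi γ hγ _ (B.val_mem ε))) ⟨h1 _, B.val_inj (by
        change γ _ * γ _ = γ _
        rw [← map_mul, a1]), B.val_inj (by
        change γ _ + star (γ _) = 1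
        rw [← c.le_SAut hγ, ← map_add, a2, map_one])⟩).imp (congrArg B.val) (congrArg B.val)
    refine hp _ ?_ a1 a2
    rintro γ hγ _ (rfl | rfl)
    · exact a3 γ hγ
    · rw [c.le_SAut hγ]
      rcases a3 γ hγ with h4 | h4 <;> rw [h4]
      · exact Or.inr rfl
      · exact Or.inl (star_star _)⟩
  obtain ⟨t, t0, ht⟩ := h2.quad (A := h.EB) (RingEquiv.refl (End K V)) hZ.1 hZ.2.1 (fun _ => cen_sym o) hn
  have hq : 2 ≤ Nat.card K := Finite.one_lt_card
  obtain ⟨W, a1, a2, a3⟩ := h2.sub t0 (hq.trans (Nat.le_self_pow two_ne_zero _)) ht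
  refine setup c hI a2 ⟨fun x hx => (a1 x).2 ⟨hZ.1 hx, ?_⟩, fun x hx => (a1 _).2 ⟨hZ.2.1 x ((a1 x).1 hx).1, by
    rw [← star_pow, ((a1 x).1 hx).2]⟩, a2.comm⟩ (fun γ hγ x hx => (a1 _).2 ⟨hi γ hγ x ((a1 x).1 hx).1, by
    rw [← map_pow, ((a1 x).1 hx).2]⟩) Nat.prime_two a3 (Or.inl rfl)
  have a4 := pow_card (isF_of_le h2 hZ.1) hx
  rw [card_center (A := h.EB) (RingEquiv.refl (End K V))] at a4
  rw [pow_two, pow_mul, a4, a4]

theorem ex_all (hF : FldD H) : Ex h F H p True := by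
  obtain ⟨-, Z, hZ, hn, hi⟩ := hF
  rcases exists_symF c.ss c.le_SAut hI hZ hi with e | ⟨W, r, hW, -, hi'⟩
  · refine ex_two o c hI hp hZ hi ?_ _
    by_contra a1
    push Not at a1
    exact hn fun x hx => e x hx (a1 x hx)
  have h1 : C0 h.EB = Subring.center h.EB := le_antisymm (fun _ hx => hx.1) fun _ hx => ⟨hx, cen_sym o hx⟩
  exact setup c hI hW.isF ⟨h1 ▸ hW.le, fun x hx => by rwa [hW.sym x hx], hW.isF.comm⟩ hi' hW.prime
    (by rw [hW.card, h1, card_center (A := h.EB) (RingEquiv.refl (End K V))]) (Or.inr ⟨trivial, hW.sym⟩)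

end FSO

namespace FSO.FE

local notation "cA" => Cfsg.Agent.DS.Cl.cj

variable {K V : Type} [Field K] [Fintype K] [AddCommGroup V] [Module K V] [Finite V] [Nontrivial V] {h : HF K V}
  {E : Type} [Field E] [Fintype E] [DecidableEq E] [Algebra K E] [Module E V] [IsScalarTower K E V] {f : FE h E}
  {F : FR h.EB} {G H : Subgroup (RingAut h.EB)} {m p : ℕ} {l : h.EB} {Q : QuadraticForm K V} (o : KO h F Q)
  (d : f.Dat F p l)
include o d

theorem o_two (h2 : finrank K E = 2) : False := by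
  have h1 := o.dim
  obtain ⟨v, w, hx⟩ : ∃ v w : V, ∀ x, ∃ a b : E, x = a • v + b • w := by
    by_cases hσ : ∀ θ, f.σ θ = θ
    · exact span_eq (KO.so o) d hσ
    obtain ⟨θ, hθ⟩ := not_forall.1 hσ
    obtain ⟨v, v0, hv⟩ := sing_ne (KO.so o) d hθ (by omega)
    obtain ⟨w, -, -, hx⟩ := span (KO.so o) d hv v0
    exact ⟨v, w, fun x => ⟨_, _, hx x⟩⟩
  have := finrank_le (K := K) hx
  omega

variable (hσ : ∀ θ, f.σ θ = θ)
include hσ

/-- the torus of `O₂^±(E)` -/
theorem o_comm {y : h.EB} (hy : y ∈ f.C) (hL : y ∈ F.L) : l * y = y * l := by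
  obtain ⟨v, w, hx⟩ := span_eq (KO.so o) d hσ
  have h1 : ∀ y ∈ f.C, y ∈ F.L → ∀ x, f.β x (h.ap y x) = 0 := fun y hy hL x => by
    rw [o.o.2.2.1] at hL
    obtain ⟨a, rfl⟩ := hL
    rw [← f.av_of_mem hy, map_sub, f.av_star, h.ap_sub, f.β_sub_right, f.β_star (f.av_mem a), f.β_swap (KO.so o), hσ,
      map_one, one_mul, sub_self]
  have h2 : ∀ y ∈ f.C, (∀ x, f.β x (h.ap y x) = 0) → f.β v (h.ap y w) = 0 → y = 0 := fun y hy h2 h3 => by
    have h4 := h2 (v + w)
    rw [map_add, f.β_add_left, f.β_add_right, f.β_add_right, h2, h2, h3, add_zero, add_zero, zero_add] at h4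
    refine h.ap_ext fun x => f.β_ext fun x' => ?_
    obtain ⟨a, b, rfl⟩ := hx x
    obtain ⟨a', b', rfl⟩ := hx x'
    simp [f.lin hy, f.β_add_left, f.β_add_right, f.β_smul_left, f.β_smul_right, h2, h3, h4, SB.Tor.ap_zero, f.β_zero_right]
  have h3 := sub_mem d.mem (f.star_mem d.mem)
  have h4 := h1 _ h3 (F.sub_star_mem l)
  have h5 : l - star l = l + l - 1 := by rw [eq_sub_of_add_eq' (l_add d.L)]; abel
  rw [h5] at h3 h4
  by_cases h6 : f.β v (h.ap (l + l - 1) w) = 0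
  · have h7 := sub_eq_zero.1 (h2 _ h3 h4 h6)
    rw [← mul_one (l * y), ← h7, ← one_mul (y * l), ← h7]
    noncomm_ring
  have h7 := sub_eq_zero.1 (h2 (f.ι (f.β v (h.ap (l + l - 1) w)) * y - f.ι (f.β v (h.ap y w)) * (l + l - 1))
    (sub_mem (mul_mem (f.ι_mem _) hy) (mul_mem (f.ι_mem _) h3)) (fun x => by
      simp only [h.ap_sub _ (_ * _), h.ap_mul, f.ap_ι, f.β_sub_right, f.β_smul_right, h1 y hy hL, h4, mul_zero, sub_zero])
    (by simp only [h.ap_sub _ (_ * _), h.ap_mul, f.ap_ι, f.β_sub_right, f.β_smul_right, hσ]; ring))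
  refine ((IsUnit.mk0 _ h6).map f.ι).mul_left_cancel ?_
  rw [← mul_assoc, f.mem_C.1 d.mem, mul_assoc, ← mul_assoc _ y, h7, ← mul_assoc, ← f.mem_C.1 d.mem]
  noncomm_ring

theorem o_eq (c : Ctx F G H m p) (hi : Inv H f.ι.range) :
    ∃ Z : Subring h.EB, ComSub Z ∧ Inv H Z ∧ ∃ z ∈ Z, star z ≠ z := by
  let X : Set h.EB := {x | x ∈ f.C ∧ F.l - x ∈ F.L}
  have h1 : X ⊆ Subring.centralizer X := fun x hx y hy => by
    have h1 := o_comm o ⟨d.syl, hy.1, hy.2, d.prime⟩ hσ (sub_mem hx.1 hy.1) (by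
      have := F.L.sub_mem hy.2 hx.2
      rwa [sub_sub_sub_cancel_left] at this)
    rwa [mul_sub, sub_mul, sub_left_inj] at h1
  refine ⟨Subring.centralizer (Subring.centralizer X : Set h.EB), ⟨Subring.center_le_centralizer _,
    star_centralizer (star_centralizer fun x hx => ⟨f.star_mem hx.1, ?_⟩), fun x hx y hy => hy x fun z hz => hx z (h1 hz)⟩,
    inv_centralizer (inv_centralizer fun γ hγ x hx => ⟨inv_centralizer hi γ hγ x hx.1, ?_⟩), ?_⟩
  · have := F.L.add_mem hx.2 (F.sub_star_mem x)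
    rwa [sub_add_sub_cancel] at this
  · have := F.L.sub_mem (F.map_mem (c.le_SAut hγ) hx.2) (c.H_le_Aut hγ).2
    rwa [map_sub, sub_sub_sub_cancel_left] at this
  by_contra h2
  push Not at h2
  replace h2 : ∀ x ∈ X, x + x = 1 := fun x hx => by
    have h3 := l_add hx.2
    rwa [h2 x fun y hy => (hy x hx).symm] at h3
  have h3 : ∀ a ∈ f.C, star a = a := fun a ha => by
    have h3 := h2 (l + (a - star a)) ⟨add_mem d.mem (sub_mem ha (f.star_mem ha)), by
      rw [← sub_sub]; exact F.L.sub_mem d.L (F.sub_star_mem a)⟩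
    have h4 := h2 l ⟨d.mem, d.L⟩
    rw [add_add_add_comm, h4, add_eq_left] at h3
    rw [eq_comm, ← sub_eq_zero, ← one_mul (a - star a), ← h4, add_mul, ← mul_add, h3, mul_zero]
  obtain ⟨⟨x, y⟩, hxy⟩ := f.exists_one
  have h4 : ∀ u, u = f.β x u • y := fun u => by
    have h4 := f.star_τ (KO.so o) u y x
    rwa [h3 _ (f.τ_mem u y), f.ap_τ, hxy, one_smul, map_one, one_mul] at h4
  have h5 : IsF f.ι.range := ⟨by rintro _ ⟨a, rfl⟩ _ ⟨b, rfl⟩; rw [← map_mul, ← map_mul, mul_comm], by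
    rintro _ ⟨a, rfl⟩ ha
    exact ⟨_, ⟨a⁻¹, rfl⟩, by rw [← map_mul, mul_inv_cancel₀ fun e => ha (by rw [e, map_zero]), map_one]⟩⟩
  refine c.inf_not_comm fun γ hγ δ hδ => commutatorElement_eq_one_iff_mul_comm.1 ?_
  have h6 := comm_fix h5 hi hγ.1 hδ.1
  obtain ⟨u, hu, e⟩ : ⁅γ, δ⁆ ∈ F.S := mul_mem (mul_mem (mul_mem hγ.2 hδ.2) (inv_mem hγ.2)) (inv_mem hδ.2)
  rw [← e] at h6 ⊢
  have h7 : (u : h.EB) ∈ f.C := f.mem_C.2 fun z => by rw [← cj_mul_eq u, h6 _ ⟨z, rfl⟩]
  have h8 : (u : h.EB) = f.ι (f.β x (h.ap u y)) := h.ap_ext fun z => by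
    rw [f.ap_ι, h4 z, f.lin h7, smul_comm, ← h4]
  have h9 := (F.comm_le_Iso hu).1
  rw [h3 _ h7, h8, ← map_mul, ← map_one f.ι] at h9
  refine RingEquiv.ext fun z => cj_eq_of_mul ?_
  rcases mul_self_eq_one_iff.1 (f.ι_inj h9) with e | e <;> rw [h8, e] <;> simp

end FSO.FE

open FSO

/-- **[C-Fld]**, symplectic groups -/
theorem boxFldSp : BoxFldSp := fun K V _ _ _ _ _ h F k G H m p o c hF => by
  have : Nontrivial V := Module.nontrivial_of_finrank_pos (R := K) (by have := o.two; rw [o.dim]; omega)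
  obtain ⟨E, _, _, _, _, _, _, f, l, d, -, h1⟩ := ex_all (KSp.so o) c hF.1 (fun _ => KSp.pair o c hF.1.1) hF
  by_cases hσ : ∀ θ, f.σ θ = θ
  · exact FE.sp_eq o d hσ
  · obtain ⟨θ, hθ⟩ := not_forall.1 hσ
    exact FE.sp_ne o d (h1.resolve_right fun e => hσ e.2) hθ

/-- **[C-Fld]**, orthogonal groups -/
theorem boxFldO : BoxFldO := fun K V _ _ _ _ _ h F Q G H m p o c hF => by
  have : Nontrivial V := Module.nontrivial_of_finrank_pos (R := K) (by have := o.dim; omega)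
  obtain ⟨E, _, _, _, _, _, _, f, l, d, hi, h1 | h1⟩ := ex_all (KO.so o) c hF.1 (fun _ => KO.pair o c hF.1.1) hF
  · exact FE.o_two o d h1
  obtain ⟨Z, a1, a2, a3⟩ := FE.o_eq o d h1.2 c hi
  obtain ⟨E, _, _, _, _, _, _, f, l, d, -, h1⟩ := ex_two (KO.so o) c hF.1 (fun _ => KO.pair o c hF.1.1) a1 a2 a3 False
  exact FE.o_two o d (h1.resolve_right fun e => e.1)

end Cfsg.Agent.TH.Cl
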