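import Cfsg.Agent.TH.Cl.FldSO.Pair

/-!
# S3541, symplectic and orthogonal groups: the form over an extension field (helper94)

`f : FE h E` : the field `E` acts on `V`, compatibly with the involution.  `f.β` is the form with values in `E`,
`b = T ∘ β`, `f.av` is the projection onto the ring `f.C` of the `E`-linear maps.
-/

set_option autoImplicit false
set_option linter.unusedSectionVars false

namespace Cfsg.Agent.TH.Cl.FSO

open Cfsg.Agent.DS.Cl Cfsg.Agent.DS.Cl.Fwd Cfsg.Agent.SB.Cl Cfsg.Agent.SB.C2 Module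

variable {K V : Type} [Field K] [Fintype K] [AddCommGroup V] [Module K V] [Finite V]

/-- a field of endomorphisms closed under the involution -/
structure FE (h : HF K V) (E : Type) [Field E] [Module E V] where
  /-- the embedding -/
  ι : E →+* h.EB
  /-- the involution -/
  σ : E →+* E
  ap_ι : ∀ z v, h.ap (ι z) v = z • v
  star_ι : ∀ z, star (ι z) = ι (σ z)

theorem ap_neg (h : HF K V) (a : h.EB) (v : V) : h.ap (-a) v = -h.ap a v := rfl

theorem ap_sum (h : HF K V) {I : Type} (s : Finset I) (a : I → h.EB) (v : V) :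
    h.ap (∑ i ∈ s, a i) v = ∑ i ∈ s, h.ap (a i) v := LinearMap.sum_apply s (fun i => h.ap (a i)) v

namespace FE

variable {h : HF K V} {E : Type} [Field E] [Fintype E] [DecidableEq E] [Algebra K E] [Module E V] [IsScalarTower K E V]
  (f : FE h E)

/-- the `E`-linear maps -/
def C : Subring h.EB := Subring.centralizer (f.ι.range : Set h.EB)

theorem mem_C {a : h.EB} : a ∈ f.C ↔ ∀ z, f.ι z * a = a * f.ι z :=
  ⟨fun ha z => ha _ ⟨z, rfl⟩, by rintro ha _ ⟨z, rfl⟩; exact ha z⟩

theorem ι_mem (z : E) : f.ι z ∈ f.C := f.mem_C.2 fun y => by rw [← map_mul, ← map_mul, mul_comm]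

theorem star_mem {a : h.EB} (ha : a ∈ f.C) : star a ∈ f.C :=
  star_centralizer (by rintro _ ⟨z, rfl⟩; exact ⟨_, (f.star_ι z).symm⟩) a ha

theorem lin {a : h.EB} (ha : a ∈ f.C) (z : E) (v : V) : h.ap a (z • v) = z • h.ap a v := by
  rw [← f.ap_ι, ← f.ap_ι, ← h.ap_mul, ← h.ap_mul, f.mem_C.1 ha]

theorem b_smul (z : E) (x y : V) : h.b (z • x) y = h.b x (f.σ z • y) := by
  rw [← f.ap_ι, ← f.ap_ι, ← f.star_ι, h.b_star]

/-- the projection onto the `E`-linear maps -/
def av : h.EB →+ h.EB where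
  toFun a := -∑ u : Eˣ, f.ι u * a * f.ι (u : E)⁻¹
  map_zero' := by simp
  map_add' a b := by simp only [mul_add, add_mul, Finset.sum_add_distrib, neg_add]

theorem av_apply (a : h.EB) : f.av a = -∑ u : Eˣ, f.ι u * a * f.ι (u : E)⁻¹ := rfl

theorem av_mem (a : h.EB) : f.av a ∈ f.C := f.mem_C.2 fun z => by
  by_cases h0 : z = 0
  · simp [h0]
  rw [av_apply, mul_neg, neg_mul, Finset.mul_sum, Finset.sum_mul]
  refine congrArg _ (Fintype.sum_equiv (Equiv.mulLeft (Units.mk0 z h0)) _ _ fun u => ?_)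
  rw [Equiv.coe_mulLeft, Units.val_mul, Units.val_mk0, mul_assoc _ (f.ι _) (f.ι z), ← map_mul, mul_inv_rev,
    inv_mul_cancel_right₀ h0, map_mul]
  simp only [mul_assoc]

theorem av_left {c : h.EB} (hc : c ∈ f.C) (a : h.EB) : f.av (c * a) = c * f.av a := by
  rw [av_apply, av_apply, mul_neg, Finset.mul_sum]
  refine congrArg _ (Finset.sum_congr rfl fun u _ => ?_)
  rw [← mul_assoc, f.mem_C.1 hc]
  simp only [mul_assoc]

theorem av_right {c : h.EB} (hc : c ∈ f.C) (a : h.EB) : f.av (a * c) = f.av a * c := by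
  rw [av_apply, av_apply, neg_mul, Finset.sum_mul]
  refine congrArg _ (Finset.sum_congr rfl fun u _ => ?_)
  rw [mul_assoc _ _ c, f.mem_C.1 hc]
  simp only [mul_assoc]

theorem av_of_mem {c : h.EB} (hc : c ∈ f.C) : f.av c = c := by
  have h1 : ((Fintype.card E - 1 : ℕ) : E) = -1 := by
    rw [Nat.cast_sub Fintype.card_pos, FiniteField.cast_card_eq_zero, Nat.cast_one, zero_sub]
  rw [av_apply, Finset.sum_congr rfl fun (u : Eˣ) _ => (by
      rw [f.mem_C.1 hc, mul_assoc, ← map_mul, mul_inv_cancel₀ u.ne_zero, map_one, mul_one] :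
      f.ι u * c * f.ι (u : E)⁻¹ = c), Finset.sum_const, Finset.card_univ, Fintype.card_units, nsmul_eq_mul,
    ← map_natCast f.ι, h1, map_neg, map_one, neg_one_mul, neg_neg]

/-- the form with values in `E` -/
def β (_f : FE h E) (x y : V) : E := -∑ u : Eˣ, h.b ((u : E)⁻¹ • x) y • (u : E)

/-- the `E`-linear maps of rank one -/
def τ (u y : V) : h.EB := f.av (h.eb (h.ro u y))

theorem τ_mem (u y : V) : f.τ u y ∈ f.C := f.av_mem _

theorem ap_τ (u y x : V) : h.ap (f.τ u y) x = f.β x y • u := by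
  rw [τ, av_apply, ap_neg, ap_sum, β, neg_smul, Finset.sum_smul]
  refine congrArg _ (Finset.sum_congr rfl fun t _ => ?_)
  rw [h.ap_mul, h.ap_mul, f.ap_ι, f.ap_ι, h.ap_eb, h.ro_apply, smul_assoc, smul_comm]

theorem β_add_left (x x' y : V) : f.β (x + x') y = f.β x y + f.β x' y := by
  simp only [β, smul_add, h.add_left, add_smul, Finset.sum_add_distrib, neg_add]

theorem β_add_right (x y y' : V) : f.β x (y + y') = f.β x y + f.β x y' := by
  simp only [β, h.add_right, add_smul, Finset.sum_add_distrib, neg_add]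

theorem β_sub_left (x x' y : V) : f.β (x - x') y = f.β x y - f.β x' y := by
  rw [eq_sub_iff_add_eq, ← β_add_left, sub_add_cancel]

theorem β_sub_right (x y y' : V) : f.β x (y - y') = f.β x y - f.β x y' := by
  rw [eq_sub_iff_add_eq, ← β_add_right, sub_add_cancel]

theorem β_zero_left (y : V) : f.β 0 y = 0 := by simp [β, h.zero_left]

theorem β_zero_right (x : V) : f.β x 0 = 0 := by simp [β, h.zero_right]

theorem β_star {c : h.EB} (hc : c ∈ f.C) (x y : V) : f.β x (h.ap (star c) y) = f.β (h.ap c x) y := by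
  simp only [β, h.b_star, f.lin hc]

theorem star_β {c : h.EB} (hc : c ∈ f.C) (x y : V) : f.β (h.ap (star c) x) y = f.β x (h.ap c y) := by
  rw [← f.β_star (f.star_mem hc), star_star]

theorem β_iso {u : h.EBˣ} (hc : (u : h.EB) ∈ f.C) (hu : (u : h.EB) * star (u : h.EB) = 1) (x y : V) :
    f.β (h.ap u x) (h.ap u y) = f.β x y := by
  rw [← f.β_star hc, ← star_eq_inv hu, SB.Tor.ap_inv_ap]

theorem β_b (x y u u' : V) : h.b (f.β x y • u) u' = h.b (f.β u u' • x) y := by
  have h1 : ∀ x y u u' : V, h.b (f.β x y • u) u' = -∑ t : Eˣ, h.b ((t : E)⁻¹ • x) y * h.b ((t : E) • u) u' :=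
    fun x y u u' => by
    rw [β, neg_smul, Finset.sum_smul, show ∀ z, h.b z u' = h.lin u' z from fun _ => rfl, map_neg, map_sum]
    refine congrArg _ (Finset.sum_congr rfl fun t _ => ?_)
    rw [smul_assoc, map_smul]
    rfl
  rw [h1, h1]
  refine congrArg _ (Fintype.sum_equiv (Equiv.inv Eˣ) _ _ fun t => ?_)
  rw [Equiv.inv_apply, Units.val_inv_eq_inv_val, inv_inv, mul_comm]

variable [Nontrivial V]

theorem ι_inj : Function.Injective f.ι :=
  have : Nontrivial h.EB := h.ss.nontrivial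
  f.ι.injective

theorem σ_σ (z : E) : f.σ (f.σ z) = z := f.ι_inj (by rw [← f.star_ι, ← f.star_ι, star_star])

theorem av_star (a : h.EB) : f.av (star a) = star (f.av a) := by
  let e : Eˣ ≃ Eˣ := Function.Involutive.toPerm (fun u => (Units.map (f.σ : E →* E) u)⁻¹) fun u => Units.ext (by
    simp [f.σ_σ])
  rw [av_apply, av_apply, star_neg, star_sum]
  refine congrArg _ (Fintype.sum_equiv e _ _ fun u => ?_)
  have h1 : ((e u : Eˣ) : E) = (f.σ u)⁻¹ := Units.val_inv_eq_inv_val _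
  rw [star_mul, star_mul, f.star_ι, f.star_ι, h1, inv_inv, f.σ_σ, map_inv₀ f.σ, f.σ_σ, mul_assoc]

theorem β_smul_left (z : E) (x y : V) : f.β (z • x) y = z * f.β x y := by
  obtain ⟨u, hu⟩ := exists_ne (0 : V)
  refine smul_left_injective E hu ?_
  change _ • u = _ • u
  rw [← f.ap_τ, f.lin (f.τ_mem _ _), f.ap_τ, mul_smul]

theorem β_smul_right (z : E) (x y : V) : f.β x (z • y) = f.σ z * f.β x y := by
  conv_lhs => rw [← f.σ_σ z, ← f.ap_ι, ← f.star_ι, f.β_star (f.ι_mem _), f.ap_ι, f.β_smul_left]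

theorem exists_one : ∃ u : V × V, f.β u.1 u.2 = 1 := by
  by_contra hc
  push Not at hc
  have h1 := ro_ind (h := h) (fun a => f.av a = 0) (map_zero _) (fun a b ha hb => by rw [map_add, ha, hb, add_zero])
    (fun u y => h.ap_ext fun x => by
      by_cases h0 : f.β x y = 0
      · exact (f.ap_τ u y x).trans (by rw [h0, zero_smul]; rfl)
      · exact absurd (by rw [f.β_smul_left, inv_mul_cancel₀ h0]) (hc ((f.β x y)⁻¹ • x, y))) 1
  rw [f.av_of_mem (one_mem _)] at h1
  have : Nontrivial h.EB := h.ss.nontrivial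
  exact one_ne_zero h1

/-- the trace -/
noncomputable def T : E →ₗ[K] K where
  toFun z := h.b (z • f.exists_one.choose.1) f.exists_one.choose.2
  map_add' z z' := by rw [add_smul, h.add_left]
  map_smul' c z := by rw [smul_assoc, h.smul_left]; rfl

theorem b_eq (x y : V) : h.b x y = f.T (f.β x y) := by
  change _ = h.b (f.β x y • _) _
  rw [f.β_b, f.exists_one.choose_spec, one_smul]

theorem exists_β {x : V} (hx : x ≠ 0) : ∃ y, f.β y x = 1 := by
  obtain ⟨y, hy⟩ := h.exists_ne hx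
  exact ⟨(f.β y x)⁻¹ • y, by
    rw [f.β_smul_left, inv_mul_cancel₀ fun e => hy (by rw [f.b_eq, e, map_zero])]⟩

theorem β_ext {x x' : V} (hx : ∀ y, f.β y x = f.β y x') : x = x' := h.ext_right fun y => by rw [f.b_eq, f.b_eq, hx]

theorem exists_T {a : E} (ha : a ≠ 0) : ∃ z, f.T (z * a) ≠ 0 := by
  obtain ⟨x, hx⟩ := exists_ne (0 : V)
  obtain ⟨y, hy⟩ := h.exists_ne hx
  exact ⟨f.β y x / a, by rwa [div_mul_cancel₀ _ ha, ← f.b_eq]⟩

variable {F : FR h.EB} {s κ : K} (o : SO h F s κ)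
include o

theorem σ_alg (c : K) : f.σ (algebraMap K E c) = algebraMap K E c := by
  obtain ⟨x, hx⟩ := exists_ne (0 : V)
  refine smul_left_injective E hx (h.ext_right fun y => ?_)
  change h.b y (_ • x) = h.b y (_ • x)
  rw [← f.b_smul, algebraMap_smul, algebraMap_smul, h.smul_left, h.smul_right, o.tau]

theorem σ_smul (c : K) (z : E) : f.σ (c • z) = c • f.σ z := by rw [Algebra.smul_def, Algebra.smul_def, map_mul, f.σ_alg o]

theorem β_swap (x y : V) : f.β y x = algebraMap K E s * f.σ (f.β x y) := by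
  let e : Eˣ ≃ Eˣ := Function.Involutive.toPerm (Units.map (f.σ : E →* E)) fun u => Units.ext (f.σ_σ u)
  rw [β, β, map_neg, map_sum, mul_neg, Finset.mul_sum]
  refine congrArg _ (Fintype.sum_equiv e _ _ fun u => ?_)
  have h1 : ((e u : Eˣ) : E) = f.σ u := rfl
  rw [f.σ_smul o, h1, f.σ_σ, ← Algebra.smul_def, smul_smul, ← o.sw, f.b_smul, map_inv₀]

theorem orth {x y : V} (e : f.β x y = 0) : f.β y x = 0 := by rw [f.β_swap o, e, map_zero, mul_zero]

omit f [Nontrivial V] in
theorem sE : algebraMap K E s * algebraMap K E s = 1 := by rw [← map_mul, o.ss, map_one]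

theorem T_σ (z : E) : f.T (f.σ z) = f.T z := by
  obtain ⟨⟨u, u'⟩, hu⟩ := f.exists_one
  have h1 := o.sw (z • u) u'
  rw [f.b_eq, f.b_eq, f.β_swap o, f.β_smul_left, hu, mul_one, ← Algebra.smul_def, map_smul, smul_eq_mul] at h1
  exact mul_left_cancel₀ (left_ne_zero_of_mul_eq_one o.ss) h1

theorem star_τ (u y x : V) : h.ap (star (f.τ u y)) x = (algebraMap K E s * f.β x u) • y := by
  refine f.β_ext fun z => ?_
  rw [f.β_star (f.τ_mem _ _), f.ap_τ, f.β_smul_left, f.β_smul_right, map_mul, f.σ_alg o, ← f.β_swap o, mul_comm]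

omit o in
/-- singular vectors over `E` -/
def Sing (F : FR h.EB) (κ : K) (x : V) : Prop := f.β x x = 0 ∧ ∀ z : E, qf h F κ (z • x) = 0

omit o in
theorem Sing.smul {x : V} (hx : f.Sing F κ x) (z : E) : f.Sing F κ (z • x) :=
  ⟨by rw [f.β_smul_left, f.β_smul_right, hx.1, mul_zero, mul_zero], fun y => by rw [smul_smul, hx.2]⟩

variable {l : h.EB} (hl : l ∈ f.C) (hL : F.l - l ∈ F.L)
include hl hL

theorem qf_eq (z : E) (x : V) : qf h F κ (z • x) = κ * f.T (z * f.σ z * f.β x (h.ap l x)) := by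
  rw [o.qf_eq hL, f.b_eq, f.lin hl, f.β_smul_left, f.β_smul_right, mul_assoc]

omit o in
theorem β_l (x y : V) : f.β x (h.ap l y) + f.β (h.ap l x) y = f.β x y := by
  rw [← f.β_star hl, ← f.β_add_right, ← h.ap_add, l_add hL, h.ap_one]

theorem β_self (x : V) : f.β x x = f.β x (h.ap l x) + algebraMap K E s * f.σ (f.β x (h.ap l x)) := by
  rw [← f.β_swap o, f.β_l hl hL]

theorem sing_of_q {x : V} (hx : f.β x (h.ap l x) = 0) : f.Sing F κ x :=
  ⟨by rw [f.β_self o hl hL, hx, map_zero, mul_zero, add_zero], fun z => by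
    rw [f.qf_eq o hl hL, hx, mul_zero, map_zero, mul_zero]⟩

/-- hyperbolic pairs -/
theorem partner {v : V} (hv : f.Sing F κ v) (h0 : v ≠ 0) : ∃ w, f.Sing F κ w ∧ f.β v w = 1 := by
  obtain ⟨y, hy⟩ := f.exists_β h0
  obtain ⟨w, h1⟩ : ∃ w, f.β v w = 1 := ⟨algebraMap K E s • y, by
    rw [f.β_smul_right, f.σ_alg o, f.β_swap o, hy, map_one, mul_one, sE o]⟩
  have h2 : f.β w v = algebraMap K E s := by rw [f.β_swap o, h1, map_one, mul_one]
  refine ⟨w - f.β w (h.ap l w) • v, ⟨?_, fun z => ?_⟩, by rw [f.β_sub_right, f.β_smul_right, hv.1, h1, mul_zero, sub_zero]⟩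
  · simp only [f.β_sub_left, f.β_sub_right, f.β_smul_left, f.β_smul_right, hv.1, h1, h2]
    rw [f.β_self o hl hL]
    ring
  · rcases o.alt with e | e
    · rw [qf, e.2, zero_mul]
    have h3 := hv.2 (z * f.β w (h.ap l w))
    have h4 := f.β_l hl hL v w
    have h5 := f.T_σ o (z * f.σ z * (f.σ (f.β w (h.ap l w)) * f.β w (h.ap l v)))
    rw [f.qf_eq o hl hL] at h3 ⊢
    rw [map_mul f.σ, map_mul f.σ, map_mul f.σ, f.σ_σ, f.σ_σ, mul_comm _ z,
      show f.σ (f.β w (h.ap l v)) = f.β (h.ap l v) w by rw [f.β_swap o w, e.1, map_one, one_mul],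
      eq_sub_of_add_eq' h4, h1] at h5
    rw [map_sub, f.lin hl]
    simp only [f.β_sub_left, f.β_sub_right, f.β_smul_left, f.β_smul_right, map_mul f.σ] at h3 ⊢
    generalize f.β w (h.ap l w) = μ at h3 h5 ⊢
    have h6 : z * f.σ z * (μ - f.σ μ * f.β w (h.ap l v) - (μ * f.β v (h.ap l w) - μ * (f.σ μ * f.β v (h.ap l v)))) =
      z * f.σ z * (μ * (1 - f.β v (h.ap l w))) - z * f.σ z * (f.σ μ * f.β w (h.ap l v)) +
        z * μ * (f.σ z * f.σ μ) * f.β v (h.ap l v) := by ring
    rw [h6, map_add, map_sub, h5, sub_self, zero_add, h3]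

/-- non-singular vectors of norm zero: orthogonal groups in characteristic two -/
theorem sing_add {x y : V} (hx : f.β x x = 0) (hx' : ¬ f.Sing F κ x) (hxy : f.β x y = 0) :
    ∃ μ : E, f.Sing F κ (μ • x + y) := by
  obtain ⟨z, hz⟩ := not_forall.1 fun e => hx' ⟨hx, e⟩
  rw [f.qf_eq o hl hL] at hz
  obtain ⟨rfl, rfl⟩ := o.alt.resolve_left fun e => hz (by rw [e.2, zero_mul])
  rw [f.β_self o hl hL, map_one, one_mul] at hx
  rw [one_mul] at hz
  have h1 : f.σ (z * f.σ z * f.β x (h.ap l x)) = -(z * f.σ z * f.β x (h.ap l x)) := by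
    rw [map_mul, map_mul, f.σ_σ, eq_neg_of_add_eq_zero_right hx]; ring
  have h2 : (2 : K) = 0 := by
    have h2 := f.T_σ o (z * f.σ z * f.β x (h.ap l x))
    rw [h1, map_neg] at h2
    exact (mul_eq_zero.1 (by linear_combination -h2)).resolve_right hz
  have h3 : (2 : E) = 0 := by rw [← map_ofNat (algebraMap K E) 2, h2, map_zero]
  have h4 : ∀ θ, f.σ θ = θ := fun θ => by
    by_contra h4
    have h5 : θ + f.σ θ ≠ 0 := fun e => h4 (by linear_combination e - θ * h3)
    generalize z * f.σ z * f.β x (h.ap l x) = y at hz h1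
    have h6 := f.T_σ o (θ / (θ + f.σ θ) * y)
    have h7 : y = θ / (θ + f.σ θ) * y + f.σ (θ / (θ + f.σ θ) * y) := by
      rw [map_mul, map_div₀, map_add, f.σ_σ, h1, add_comm (f.σ θ)]
      field_simp
      linear_combination (f.σ θ * y) * h3
    refine hz ?_
    rw [h7, map_add, h6, ← two_mul, h2, zero_mul]
  have : CharP E 2 := (CharP.charP_iff_prime_eq_zero Nat.prime_two).2 h3
  obtain ⟨μ, hμ⟩ := FiniteField.isSquare_of_char_two (ringChar.eq E 2) (f.β y (h.ap l y) / f.β x (h.ap l x))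
  rw [div_eq_iff fun e => hz (by rw [e, mul_zero, map_zero])] at hμ
  refine ⟨μ, f.sing_of_q o hl hL ?_⟩
  have h5 := f.β_l hl hL x y
  rw [f.β_swap o y, h4, map_one, one_mul] at h5
  rw [map_add, f.lin hl]
  simp only [f.β_add_left, f.β_add_right, f.β_smul_left, f.β_smul_right, h4]
  linear_combination μ * h5 + μ * hxy + hμ + μ * μ * f.β x (h.ap l x) * h3

end FE

end Cfsg.Agent.TH.Cl.FSO
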