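import Cfsg.Agent.TH.Cl.FldSO.Form

/-!
# S3541, symplectic and orthogonal groups: the dimension over an invariant field is at most two (helper94)

For a hyperbolic pair `v, w` over `E` and a long root element `g` of the plane `⟨v, β₀ w⟩`, `T β₀ = 0`, an element
commuting with `E` and `g E g⁻¹` commutes with the projection onto `E v + E w`.
-/

set_option autoImplicit false
set_option linter.unusedSectionVars false

namespace Cfsg.Agent.TH.Cl.FSO.FE

open Cfsg.Agent.DS.Cl Cfsg.Agent.DS.Cl.Fwd Cfsg.Agent.SB.Cl Cfsg.Agent.SB.C2 Module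
open Cfsg.Agent.SB.Tor (ap_zero ap_inv_ap ap_ap_inv)

local notation "cA" => Cfsg.Agent.DS.Cl.cj

variable {K V : Type} [Field K] [Fintype K] [AddCommGroup V] [Module K V] [Finite V] [Nontrivial V] {h : HF K V}
  {E : Type} [Field E] [Fintype E] [DecidableEq E] [Algebra K E] [Module E V] [IsScalarTower K E V] (f : FE h E)
  {F : FR h.EB} {s κ : K} {r p : ℕ} {P : Subgroup h.EBˣ}

theorem ap_cj (u : h.EBˣ) (a : h.EB) (x : V) : h.ap (cA h.EB u a) (h.ap u x) = h.ap u (h.ap a x) := by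
  rw [← h.ap_mul, cj_mul_eq, h.ap_mul]

theorem ap_comm {a b : h.EB} (e : a * b = b * a) (x : V) : h.ap a (h.ap b x) = h.ap b (h.ap a x) := by
  rw [← h.ap_mul, e, h.ap_mul]

theorem av_comm {u a : h.EB} (hu : u ∈ f.C) (e : u * a = a * u) : u * f.av a = f.av a * u := by
  rw [← f.av_left hu, e, f.av_right hu]

theorem av_conj {ν : h.EB} (a : E) : f.av ((1 + ν) * f.ι a * (1 - ν)) = f.ι a - f.av (ν * f.ι a * ν) := by
  have h1 : (1 + ν) * f.ι a * (1 - ν) = f.ι a + ν * f.ι a - f.ι a * ν - ν * f.ι a * ν := by noncomm_ring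
  rw [h1, map_sub, map_sub, map_add, f.av_of_mem (f.ι_mem a), f.av_left (f.ι_mem a), f.av_right (f.ι_mem a),
    f.mem_C.1 (f.av_mem ν), add_sub_cancel_right]

section

variable (S : Syl F f.ι.range r p P)
include S

theorem syl_C {u : h.EBˣ} (hu : u ∈ P) : (u : h.EB) ∈ f.C := f.mem_C.2 fun z => (S.comm u hu _ ⟨z, rfl⟩).symm

/-- an `E`-linear map `c + α π` commuting with `P` -/
theorem syl_comm {π : h.EB} {a α : E} (hα : α ≠ 0) {x : h.EB} (hx : ∀ u ∈ P, (u : h.EB) * x = x * u)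
    (e : f.av x = f.ι a - f.ι α * π) : ∀ u ∈ P, (u : h.EB) * π = π * u := fun u hu => by
  have h1 := f.av_comm (f.syl_C S hu) (hx u hu)
  have h2 := f.mem_C.1 (f.syl_C S hu)
  rw [e, mul_sub, sub_mul, h2, sub_right_inj, ← mul_assoc, ← h2, mul_assoc, mul_assoc] at h1
  exact ((IsUnit.mk0 α hα).map f.ι).mul_left_cancel h1

theorem fix2 {v w v' v'' : V} {α α' γ γ' : E} (e' : v' = α • v + α' • w) (e'' : v'' = γ • v + γ' • w)
    (f' : ∀ u ∈ P, h.ap u v' = v') (f'' : ∀ u ∈ P, h.ap u v'' = v'') (h1 : f.β v' v' ≠ 0) (h2 : f.β v'' v' = 0)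
    (h3 : v'' ≠ 0) (h4 : f.β v v = 0) : ∀ u ∈ P, h.ap u v = v := fun u hu => by
  have h5 : γ' • v' - α' • v'' = (α * γ' - α' * γ) • v := by rw [e', e'']; module
  have h6 : α * γ' - α' * γ ≠ 0 := fun h0 => by
    rw [h0, zero_smul] at h5
    have h7 := congrArg (f.β · v') h5
    simp only [f.β_sub_left, f.β_smul_left, h2, f.β_zero_left, mul_zero, sub_zero] at h7
    rw [(mul_eq_zero.1 h7).resolve_right h1, zero_smul, zero_sub, neg_eq_zero] at h5
    rw [(smul_eq_zero.1 h5).resolve_right h3, zero_smul, add_zero] at e'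
    exact h1 (by rw [e', f.β_smul_left, f.β_smul_right, h4, mul_zero, mul_zero])
  refine smul_right_injective V h6 ?_
  change _ • _ = _ • v
  rw [← f.lin (f.syl_C S hu), ← h5, map_sub, f.lin (f.syl_C S hu), f.lin (f.syl_C S hu), f' u hu, f'' u hu]

variable (o : SO h F s κ) {l : h.EB} (hl : l ∈ f.C) (hL : F.l - l ∈ F.L) (hr : r < Fintype.card E)
include o hl hL hr

/-- the Eichler transformations with centre `e` -/
theorem final {π : h.EB} (hπ : π ∈ f.C) (hP : ∀ u ∈ P, (u : h.EB) * π = π * u) {e y : V} (he : f.Sing F κ e)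
    (hf : ∀ u ∈ P, h.ap u e = e) (h1 : h.ap π e ≠ 0) (y0 : y ≠ 0) (h2 : h.ap π y = 0) (h3 : f.β y e = 0) : False := by
  obtain ⟨t, t1, t2⟩ : ∃ t, f.β t e = 0 ∧ f.β y t ≠ 0 := by
    by_contra hc
    push Not at hc
    obtain ⟨e', he'⟩ := f.exists_β (x := e) fun e0 => h1 (by rw [e0, map_zero])
    have h4 : y = (algebraMap K E s * f.β y e') • e := f.β_ext fun x => by
      have h5 := hc (x - f.β x e • e') (by rw [f.β_sub_left, f.β_smul_left, he', mul_one, sub_self])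
      rw [f.β_sub_right, f.β_smul_right, sub_eq_zero] at h5
      rw [f.β_smul_right, f.β_swap o, h5, map_mul, map_mul, f.σ_σ, f.σ_alg o]
      ring
    rw [h4, f.lin hπ, smul_eq_zero_iff_left h1] at h2
    exact y0 (by rw [h4, h2, zero_smul])
  have t3 := f.orth o t1
  let J : NonUnitalSubring h.EB :=
    { carrier := {j | j ∈ f.C ∧ (∀ x, f.β (h.ap j x) e = 0) ∧ (∀ x, f.β x e = 0 → ∃ z : E, h.ap j x = z • e) ∧
        h.ap j e = 0}
      add_mem' := fun {a b} ha hb => ⟨add_mem ha.1 hb.1, fun x => by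
        rw [h.ap_add, f.β_add_left, ha.2.1, hb.2.1, add_zero], fun x hx => by
        obtain ⟨z, hz⟩ := ha.2.2.1 x hx
        obtain ⟨z', hz'⟩ := hb.2.2.1 x hx
        exact ⟨z + z', by rw [h.ap_add, hz, hz', add_smul]⟩, by rw [h.ap_add, ha.2.2.2, hb.2.2.2, add_zero]⟩
      zero_mem' := ⟨zero_mem _, fun _ => f.β_zero_left e, fun _ _ => ⟨0, (zero_smul E e).symm⟩, rfl⟩
      mul_mem' := fun {a b} ha hb => ⟨mul_mem ha.1 hb.1, fun x => ha.2.1 _, fun x _ => ha.2.2.1 _ (hb.2.1 x), by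
        rw [h.ap_mul, hb.2.2.2, map_zero]⟩
      neg_mem' := fun {a} ha => ⟨neg_mem ha.1, fun x => by
        rw [ap_neg, ← zero_sub, f.β_sub_left, ha.2.1, f.β_zero_left, sub_zero], fun x hx => by
        obtain ⟨z, hz⟩ := ha.2.2.1 x hx
        exact ⟨-z, by rw [ap_neg, hz, neg_smul]⟩, by rw [ap_neg, ha.2.2.2, neg_zero]⟩ }
  choose w w1 w2 using fun c : E => o.uni (f.τ (c • e) t) l hL
    (h.ap_ext fun x => by simp [h.ap_mul, f.ap_τ, f.β_smul_left, t3, ap_zero])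
    (h.ap_ext fun x => by simp [h.ap_mul, f.ap_τ, f.star_τ o, f.β_smul_left, f.β_smul_right, he.1, ap_zero])
    fun x => by rw [f.ap_τ, smul_smul, he.2]
  have w3 : ∀ c x, ∃ z : E, h.ap (w c) x = x + (f.β x t * c) • e - (algebraMap K E s * (f.σ c * f.β x e)) • t -
      (z * f.β x e) • e := fun c x => ⟨algebraMap K E s * f.σ c * f.β (h.ap l t) t * c, by
    rw [w2, h.ap_sub, h.ap_sub, h.ap_add, h.ap_mul, h.ap_mul, h.ap_one, f.star_τ o, f.lin hl, f.ap_τ, f.ap_τ,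
      f.β_smul_left, f.β_smul_right]
    module⟩
  have w4 : ∀ c x, f.β x e = 0 → h.ap (w c) x = x + (f.β x t * c) • e := fun c x hx => by
    obtain ⟨z, hz⟩ := w3 c x
    simpa [hx] using hz
  have w5 : ∀ c, (w c : h.EB) ∈ f.C := fun c => by
    have a1 := f.τ_mem (c • e) t
    rw [w2]
    exact sub_mem (sub_mem (add_mem (one_mem _) a1) (f.star_mem a1)) (mul_mem (mul_mem a1 hl) (f.star_mem a1))
  have w6 : ∀ c, h.ap (w c) e = e := fun c => by rw [w4 c e he.1, t3, zero_mul, zero_smul, add_zero]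
  refine absurd (S.fam J (fun j hj => ⟨3, h.ap_ext fun x => ?_⟩) ?_ ?_ π hP E w w1 (fun c => ⟨sub_mem (w5 c) (one_mem _),
    fun x => ?_, fun x hx => ⟨f.β x t * c, ?_⟩, ?_⟩) fun a b hab => ?_) (by rwa [Nat.card_eq_fintype_card, not_le])
  · obtain ⟨z, hz⟩ := hj.2.2.1 _ (hj.2.1 x)
    rw [pow_three, h.ap_mul, h.ap_mul, hz, f.lin hj.1, hj.2.2.2, smul_zero, ap_zero]
  · rintro j hj _ ⟨z, rfl⟩
    exact f.mem_C.1 hj.1 z
  · intro u hu j hj
    have a1 := f.syl_C S hu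
    have a2 := f.β_iso a1 (S.iso hu).1
    refine ⟨mul_mem (mul_mem a1 hj.1) (f.syl_C S (inv_mem hu)), fun x => ?_, fun x hx => ?_, ?_⟩
    · rw [← ap_ap_inv h u x, ap_cj, ← hf u hu, a2, hj.2.1]
    · obtain ⟨z, hz⟩ := hj.2.2.1 (h.ap (u⁻¹ : h.EBˣ) x) (by rwa [← a2, ap_ap_inv, hf u hu])
      exact ⟨z, by rw [← ap_ap_inv h u x, ap_cj, hz, f.lin a1, hf u hu]⟩
    · rw [← hf u hu, ap_cj, hj.2.2.2, map_zero]
  · obtain ⟨z, hz⟩ := w3 c x
    simp [h.ap_sub, h.ap_one, hz, f.β_sub_left, f.β_add_left, f.β_smul_left, he.1, t1]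
  · rw [h.ap_sub, h.ap_one, w4 c x hx, add_sub_cancel_left]
  · rw [h.ap_sub, h.ap_one, w6, sub_self]
  · have a1 : ∀ c, h.ap (cA h.EB (w c) π) y + (f.β y t * c) • h.ap (cA h.EB (w c) π) e = 0 := fun c => by
      have a2 : cA h.EB (w c) π ∈ f.C := by
        rw [FR.Iso.cj_apply (F.comm_le_Iso (w1 c))]
        exact mul_mem (mul_mem (w5 c) hπ) (f.star_mem (w5 c))
      rw [← f.lin a2, ← map_add, ← w4 c y h3, ap_cj, h2, map_zero]
    have a2 : h.ap (cA h.EB (w b) π) e ≠ 0 := fun e0 => h1 (by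
      rw [← w6 b, ap_cj] at e0
      rw [← ap_inv_ap h (w b) (h.ap π e), e0, map_zero])
    have a3 := (a1 a).trans (a1 b).symm
    rw [hab, add_right_inj] at a3
    exact mul_left_cancel₀ t2 (smul_left_injective E a2 a3)

end

variable (o : SO h F s κ)
include o

/-- the long root element -/
theorem exists_g {v w : V} (hv : f.Sing F κ v) (hw : f.Sing F κ w) (h1 : f.β v w = 1) {b : E} (b1 : f.T b = 0)
    (b2 : f.σ b = b ∨ f.σ b = -b) : ∃ g ∈ (⁅F.Iso, F.Iso⁆ : Subgroup h.EBˣ),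
      (∀ x, h.ap g x = x + f.T (b * f.β x w) • v - (s * f.T (f.β x v)) • f.σ b • w) ∧
      ∀ a, f.av (cA h.EB g (f.ι a)) = f.ι a - f.ι (f.T (a * b) • b) * (f.τ v w + star (f.τ v w)) := by
  have h2 : f.β w v = algebraMap K E s := by rw [f.β_swap o, h1, map_one, mul_one]
  obtain ⟨g, hg, e⟩ := o.nil (e := v) (t := f.σ b • w) (by simpa using hv.2 1) (hw.2 _)
    (o.orth (by rw [f.b_eq, f.β_smul_right, f.σ_σ, h1, mul_one, b1]))
  have h3 : ∀ x, h.ap (h.eb (h.ro v (f.σ b • w)) - star (h.eb (h.ro v (f.σ b • w)))) x =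
      f.T (b * f.β x w) • v - (s * f.T (f.β x v)) • f.σ b • w := fun x => by
    rw [h.ap_sub, o.star_ro, h.ap_eb, h.ro_apply, f.b_eq, f.b_eq, f.β_smul_right, f.σ_σ]
  refine ⟨g, hg, fun x => by rw [e, h.ap_add, h3, h.ap_one, add_sub_assoc], fun a => ?_⟩
  rw [FR.Iso.cj_apply (F.comm_le_Iso hg), e, star_add, star_one, star_sub, star_star, ← neg_sub (h.eb _),
    ← sub_eq_add_neg, f.av_conj, sub_right_inj]
  generalize h.eb (h.ro v (f.σ b • w)) - star (h.eb (h.ro v (f.σ b • w))) = ν at h3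
  have h4 : ν * f.ι a * ν = h.eb (h.ro (f.T (a * b) • v) (f.σ b • w)) +
      h.eb (h.ro ((s * f.T (a * f.σ b)) • f.σ b • w) v) := h.ap_ext fun x => by
    rw [h.ap_mul, h.ap_mul, h3 x, map_sub, map_sub, map_smul, map_smul, map_smul, map_smul, f.ap_ι, f.ap_ι, h3, h3,
      h.ap_add, h.ap_eb, h.ap_eb, h.ro_apply, h.ro_apply, f.b_eq, f.b_eq, f.β_smul_right, f.σ_σ]
    simp only [f.β_smul_left, hv.1, hw.1, h1, h2, mul_zero, map_zero, mul_one]
    rw [← mul_assoc, mul_comm _ (algebraMap K E s), ← Algebra.smul_def, map_smul, smul_eq_mul, mul_comm b a,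
      ← mul_assoc s s, o.ss]
    module
  rw [h4, map_add]
  refine h.ap_ext fun x => (h.ap_add _ _ x).trans ?_
  rw [h.ap_mul, f.ap_ι, h.ap_add, f.star_τ o, ← τ, ← τ, f.ap_τ, f.ap_τ, f.ap_τ, f.β_smul_right, f.σ_σ,
    Algebra.smul_def _ b]
  rcases b2 with b2 | b2 <;> rw [b2]
  · module
  · rw [mul_neg, map_neg]
    module

/-- **a hyperbolic pair spans** -/
theorem big (hA : AllSyl F f.ι.range r p) {l : h.EB} (hl : l ∈ f.C) (hL : F.l - l ∈ F.L) (hr : r < Fintype.card E)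
    {b : E} (b0 : b ≠ 0) (b1 : f.T b = 0) (b2 : f.σ b = b ∨ f.σ b = -b) {v w : V} (hv : f.Sing F κ v)
    (hw : f.Sing F κ w) (h1 : f.β v w = 1) (x : V) : x = f.β x w • v + (algebraMap K E s * f.β x v) • w := by
  by_contra hx
  have h2 : f.β w v = algebraMap K E s := by rw [f.β_swap o, h1, map_one, mul_one]
  obtain ⟨g, hg, -, e⟩ := f.exists_g o hv hw h1 b1 b2
  obtain ⟨P, S, hP⟩ := hA g hg
  obtain ⟨a, ha⟩ := f.exists_T b0
  have p1 := f.syl_comm S (smul_ne_zero ha b0) (fun u hu => hP u hu _ ⟨a, rfl⟩) (e a)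
  have p2 : f.τ v w + star (f.τ v w) ∈ f.C := add_mem (f.τ_mem v w) (f.star_mem (f.τ_mem v w))
  have p3 : star (f.τ v w + star (f.τ v w)) = f.τ v w + star (f.τ v w) := by rw [star_add, star_star, add_comm]
  have p4 : ∀ x, h.ap (f.τ v w + star (f.τ v w)) x = f.β x w • v + (algebraMap K E s * f.β x v) • w := fun x => by
    rw [h.ap_add, f.ap_τ, f.star_τ o]
  generalize f.τ v w + star (f.τ v w) = π at p1 p2 p3 p4
  have p5 : h.ap π v = v := by rw [p4, h1, hv.1, one_smul, mul_zero, zero_smul, add_zero]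
  have p6 : h.ap π w = w := by rw [p4, h2, hw.1, sE o, one_smul, zero_smul, zero_add]
  have p7 : ∀ x y, h.ap π x = x → h.ap π y = 0 → f.β y x = 0 := fun x y hx hy => by
    rw [← hx, ← f.star_β p2, p3, hy, f.β_zero_left]
  have v0 : v ≠ 0 := fun e => by rw [e, f.β_zero_left] at h1; exact zero_ne_one h1
  have y0 : x - h.ap π x ≠ 0 := by rwa [p4, sub_ne_zero]
  have y1 : h.ap π (x - h.ap π x) = 0 := by rw [map_sub, p4 x, map_add, f.lin p2, f.lin p2, p5, p6, sub_self]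
  generalize x - h.ap π x = y at y0 y1
  obtain ⟨v', a1, a2, a3⟩ := S.fix (LinearMap.ker (h.ap (π - 1))).toAddSubgroup (fun u hu x hx => by
    change h.ap π _ - h.ap u x = 0
    rw [← ap_comm (p1 u hu), ← map_sub]
    exact (congrArg (h.ap u) hx).trans (map_zero _)) (y := v) (sub_eq_zero.2 p5) v0
  replace a1 : h.ap π v' = v' := sub_eq_zero.1 a1
  by_cases c1 : f.β v' v' = 0
  · by_cases c2 : f.Sing F κ v'
    · exact f.final S o hl hL hr p2 p1 c2 a3 (by rwa [a1]) y0 y1 (p7 _ _ a1 y1)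
    obtain ⟨w', a4, a5, a6⟩ := S.fix (LinearMap.ker (h.ap π)).toAddSubgroup (fun u hu x hx => by
      change h.ap π _ = 0
      rw [← ap_comm (p1 u hu)]
      exact (congrArg (h.ap u) hx).trans (map_zero _)) (y := y) y1 y0
    replace a4 : h.ap π w' = 0 := a4
    have a7 := f.orth o (p7 _ _ a1 a4)
    obtain ⟨μ, hμ⟩ := f.sing_add o hl hL c1 c2 a7
    refine f.final S o hl hL hr (sub_mem (one_mem _) p2) (fun u hu => by rw [mul_sub, sub_mul, p1 u hu, mul_one, one_mul])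
      hμ (fun u hu => by rw [map_add, f.lin (f.syl_C S hu), a3 u hu, a6 u hu]) ?_ a2 ?_ ?_
    · rwa [h.ap_sub, h.ap_one, map_add, f.lin p2, a1, a4, add_zero, add_sub_cancel_left]
    · rw [h.ap_sub, h.ap_one, a1, sub_self]
    · rw [f.β_add_right, f.β_smul_right, c1, a7, mul_zero, add_zero]
  · let M : AddSubgroup V :=
      { carrier := {x | h.ap π x = x ∧ f.β x v' = 0}
        add_mem' := fun ha hb => ⟨by rw [map_add, ha.1, hb.1], by rw [f.β_add_left, ha.2, hb.2, add_zero]⟩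
        zero_mem' := ⟨map_zero _, f.β_zero_left _⟩
        neg_mem' := fun ha => ⟨by rw [map_neg, ha.1], by rw [← zero_sub, f.β_sub_left, ha.2, f.β_zero_left, sub_zero]⟩ }
    obtain ⟨v'', a4, a5, a6⟩ := S.fix M (fun u hu x hx => ⟨by rw [← ap_comm (p1 u hu), hx.1], by
        rw [← a3 u hu, f.β_iso (f.syl_C S hu) (S.iso hu).1, hx.2]⟩) (y := f.β v' v' • v - f.β v v' • v')
      ⟨by rw [map_sub, f.lin p2, f.lin p2, p5, a1], by rw [f.β_sub_left, f.β_smul_left, f.β_smul_left]; ring⟩ fun e => by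
        have a4 := congrArg (f.β · v) e
        simp only [f.β_sub_left, f.β_smul_left, hv.1, f.β_zero_left, mul_zero, zero_sub, neg_eq_zero] at a4
        have a5 : f.β v v' = 0 := (mul_eq_zero.1 a4).elim id (f.orth o)
        rw [a5, zero_smul, sub_zero] at e
        exact smul_ne_zero c1 v0 e
    exact f.final S o hl hL hr p2 p1 hv (f.fix2 S (a1.symm.trans (p4 v')) (a4.1.symm.trans (p4 v'')) a3 a6 c1 a4.2 a5 hv.1)
      (by rwa [p5]) y0 y1 (p7 _ _ p5 y1)

end Cfsg.Agent.TH.Cl.FSO.FE
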