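import Cfsg.Agent.TH.Cl.FldLU.Core
import Cfsg.Agent.TH.Cl.Big.Mem

/-!
# S3541, symplectic and orthogonal groups, invariant commutative subrings: tools (helper94)

`Syl` : the Sylow argument for groups of isometries; `SO` : what is used about symplectic and orthogonal groups.
-/

set_option autoImplicit false
set_option linter.unusedSectionVars false

namespace Cfsg.Agent.TH.Cl.FSO

open Cfsg.Agent.DS.Cl Cfsg.Agent.DS.Cl.Fwd Cfsg.Agent.SB.Cl Cfsg.Agent.SB.C2 Cfsg.Agent.TH.Cl.Fld Module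

local notation "cA" => Cfsg.Agent.DS.Cl.cj

theorem exists_lift {Y Γ : Type*} [Group Y] [Group Γ] [Finite Y] (φ : Y →* Γ) {s : ℕ} (hs : s.Prime) {M : Subgroup Y}
    {P : Subgroup Γ} (hP : IsPGroup s P) (h : P ≤ M.map φ) : ∃ X ≤ M, IsPGroup s X ∧ X.map φ = P := by
  have : Fact s.Prime := ⟨hs⟩
  obtain ⟨Q⟩ : Nonempty (Sylow s ↥(M ⊓ P.comap φ)) := inferInstance
  let f : ↥(M ⊓ P.comap φ) →* P := (φ.comp (M ⊓ P.comap φ).subtype).codRestrict P fun x => x.2.2
  have hf : Function.Surjective f := fun g => by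
    obtain ⟨x, hx, e⟩ := h g.2
    exact ⟨⟨x, hx, show φ _ ∈ P by rw [e]; exact g.2⟩, Subtype.ext e⟩
  have : Finite P := Finite.of_surjective f hf
  have h1 : (Q : Subgroup ↥(M ⊓ P.comap φ)).map f = ⊤ :=
    ((Q.mapSurjective hf).is_maximal' (hP.to_subgroup ⊤) le_top).symm
  refine ⟨(Q : Subgroup ↥(M ⊓ P.comap φ)).map (Subgroup.subtype _), (Subgroup.map_subtype_le _).trans inf_le_left,
    Q.isPGroup'.map _, le_antisymm ?_ fun g hg => ?_⟩
  · rintro _ ⟨_, ⟨x, -, rfl⟩, rfl⟩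
    exact x.2.2
  · obtain ⟨y, hy, e⟩ := h1.ge (Subgroup.mem_top ⟨g, hg⟩)
    exact ⟨y, ⟨y, hy, rfl⟩, congrArg Subtype.val e⟩

section ring

variable {A : Type} [Ring A] [StarRing A] [Finite A]

/-- a `p`-group of isometries commuting with `Z`, of index at most `r` in the unipotent groups it normalises -/
structure Syl (F : FR A) (Z : Set A) (r p : ℕ) (P : Subgroup Aˣ) : Prop where
  prime : p.Prime
  char : (p : A) = 0
  pg : IsPGroup p P
  iso : P ≤ F.Iso
  comm : ∀ u ∈ P, ∀ z ∈ Z, (u : A) * z = z * u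
  fam : ∀ J : NonUnitalSubring A, (∀ j ∈ J, IsNilpotent j) → (∀ j ∈ J, ∀ z ∈ Z, z * j = j * z) →
    (∀ u ∈ P, ∀ j ∈ J, cA A u j ∈ J) → ∀ e : A, (∀ u ∈ P, (u : A) * e = e * u) → ∀ (X : Type) (w : X → Aˣ),
      (∀ a, w a ∈ (⁅F.Iso, F.Iso⁆ : Subgroup Aˣ)) → (∀ a, (w a : A) - 1 ∈ J) →
        (∀ a b, cA A (w a) e = cA A (w b) e → a = b) → Nat.card X ≤ r

/-- for every point there is such a group fixing it -/
def AllSyl (F : FR A) (Z : Set A) (r p : ℕ) : Prop := ∀ g ∈ (⁅F.Iso, F.Iso⁆ : Subgroup Aˣ),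
  ∃ P, Syl F Z r p P ∧ ∀ u ∈ P, ∀ z ∈ Z, (u : A) * cA A g z = cA A g z * u

theorem allSyl {F : FR A} {G H : Subgroup (RingAut A)} {m p : ℕ} (c : Ctx F G H m p) {Z : Set A} (hZ : Inv H Z)
    (hS : ¬ Inv F.S Z) {r : ℕ} (hr : ∀ M : Subgroup (RingAut A), M ≤ H ⊓ F.S → (DS.Cl.Fix Z).relIndex M ≤ r) :
    AllSyl F Z r p := fun g hg => by
  obtain ⟨P, p1, p2, p3, p4, p5⟩ := core' c hZ hS hr (c.S_le (cj_mem_S hg))
  obtain ⟨X, x1, x2, rfl⟩ := exists_lift (cA A) c.prime p1 p2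
  have h1 : ∀ (u : Aˣ) (e : A), cA A u e = e → (u : A) * e = e * u := fun u e he => by rw [← cj_mul_eq, he]
  refine ⟨X, ⟨c.prime, c.char, x2, x1.trans F.comm_le_Iso, fun u hu z hz => h1 u z (p3 ⟨u, hu, rfl⟩ z hz),
    fun J j1 j2 j3 e he Y w w1 => p5 J j1 j2 ?_ e ?_ Y w fun a => cj_mem_S (w1 a)⟩,
    fun u hu z hz => h1 u _ (p4 ⟨u, hu, rfl⟩ _ ⟨z, hz, rfl⟩)⟩
  · rintro _ ⟨u, hu, rfl⟩
    exact j3 u hu
  · rintro _ ⟨u, hu, rfl⟩
    exact cj_eq_of_mul (he u hu)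

end ring

variable {K V : Type} [Field K] [Fintype K] [AddCommGroup V] [Module K V] [Finite V] {h : HF K V} {F : FR h.EB}

theorem Syl.fix {Z : Set h.EB} {r p : ℕ} {P : Subgroup h.EBˣ} (S : Syl F Z r p P) (M : AddSubgroup V)
    (hM : ∀ u ∈ P, ∀ x ∈ M, h.ap u x ∈ M) {y : V} (hy : y ∈ M) (y0 : y ≠ 0) :
    ∃ x ∈ M, x ≠ 0 ∧ ∀ u ∈ P, h.ap u x = x := by
  have : Fact p.Prime := ⟨S.prime⟩
  let : MulAction P M :=
    { smul := fun u x => ⟨h.ap u.1 x, hM _ u.2 _ x.2⟩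
      one_smul := fun _ => rfl
      mul_smul := fun _ _ _ => rfl }
  have h0 : p • y = 0 := by
    have h1 : h.ap (p : h.EB) y = 0 := by rw [S.char]; rfl
    rw [← h1]
    exact (Module.End.natCast_apply (R := K) p y).symm
  have h1 : addOrderOf (⟨y, hy⟩ : M) = p := addOrderOf_eq_prime (Subtype.ext h0) fun e => y0 (congrArg Subtype.val e)
  obtain ⟨x, hx, hx0⟩ := S.pg.exists_fixed_point_of_prime_dvd_card_of_fixed_point M (h1 ▸ addOrderOf_dvd_natCard _)
    (a := 0) fun u => Subtype.ext (map_zero (h.ap u.1))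
  exact ⟨x, x.2, fun e => hx0 (Subtype.ext e.symm), fun u hu => congrArg Subtype.val (hx ⟨u, hu⟩)⟩

theorem ro_ind (T : h.EB → Prop) (h0 : T 0) (h1 : ∀ a b, T a → T b → T (a + b)) (h2 : ∀ u v, T (h.eb (h.ro u v)))
    (a : h.EB) : T a := by
  let S : AddSubgroup (End K V) :=
    { carrier := {a | T (h.eb a) ∧ T (-h.eb a)}
      add_mem' := fun ha hb => ⟨h1 _ _ ha.1 hb.1, by
        have h3 := h1 _ _ ha.2 hb.2
        rwa [← neg_add] at h3⟩
      zero_mem' := ⟨h0, by rw [show h.eb 0 = 0 from rfl, neg_zero]; exact h0⟩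
      neg_mem' := fun {a} ha => ⟨ha.2, by rw [show h.eb (-a) = -h.eb a from rfl, neg_neg]; exact ha.1⟩ }
  refine (h.eq_top_of_ro S (fun u v => ⟨h2 u v, ?_⟩) a).1
  rw [show -h.eb (h.ro u v) = h.eb (h.ro (-u) v) from h.ap_ext fun x => (smul_neg _ _).symm]
  exact h2 _ _

variable (h F) in
/-- the quadratic form (`κ = 1`), or zero (`κ = 0`) -/
def qf (κ : K) (x : V) : K := κ * h.b x (h.ap F.l x)

variable (h F) in
/-- symplectic and orthogonal groups -/
structure SO (s κ : K) : Prop where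
  tau : ∀ c, h.τ c = c
  sw : ∀ u v, h.b v u = s * h.b u v
  alt : (s = -1 ∧ κ = 0) ∨ (s = 1 ∧ κ = 1)
  L : ∀ x ∈ F.L, ∀ v, κ * h.b v (h.ap x v) = 0
  eich : ∀ e t, qf h F κ e = 0 → h.b t e = 0 → Eich h F e t s (qf h F κ t)
  uni : ∀ n l : h.EB, F.l - l ∈ F.L → n * n = 0 → star n * n = 0 → (∀ x, qf h F κ (h.ap n x) = 0) →
    ∃ g ∈ (⁅F.Iso, F.Iso⁆ : Subgroup h.EBˣ), (g : h.EB) = 1 + n - star n - n * l * star n

theorem l_add {A : Type} [Ring A] [StarRing A] {F : FR A} {l : A} (hl : F.l - l ∈ F.L) : l + star l = 1 := by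
  have h1 := F.star_eq_neg hl
  rw [star_sub, neg_sub, sub_eq_sub_iff_add_eq_add, add_comm, F.l_add] at h1
  exact h1.symm

theorem KSp.so {k : ℕ} (o : KSp h F k) : SO h F (-1) 0 := by
  refine ⟨o.sp.1, fun u v => by rw [IsSp.swap o.sp, neg_one_mul], Or.inl ⟨rfl, rfl⟩, fun _ _ _ => zero_mul _,
    fun e t _ ht => o.eich ht _, fun n l hl h1 h2 _ => ?_⟩
  have h3 : star n * star n = 0 := by rw [← star_mul, h1, star_zero]
  have h4 : (1 + n - star n - n * l * star n) * star (1 + n - star n - n * l * star n) = 1 := by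
    have a1 : ∀ x, n * (n * x) = 0 := fun x => by rw [← mul_assoc, h1, zero_mul]
    have a2 : ∀ x, star n * (n * x) = 0 := fun x => by rw [← mul_assoc, h2, zero_mul]
    simp only [star_sub, star_add, star_one, star_mul, star_star, eq_sub_of_add_eq' (l_add hl), mul_sub, sub_mul,
      mul_add, add_mul, mul_assoc, one_mul, mul_one, h1, h2, h3, a1, a2, mul_zero]
    abel
  exact ⟨mkU _ h4, o.mem_comm (mem_Iso_max o.sp.2.2 h4), rfl⟩

theorem KO.so {Q : QuadraticForm K V} (o : KO h F Q) : SO h F 1 1 := by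
  have hq : ∀ x, qf h F 1 x = Q x := fun x => by rw [qf, one_mul, o.o.2.2.2]
  have : Nontrivial V := Module.nontrivial_of_finrank_pos (R := K) (by have := o.dim; omega)
  refine ⟨o.o.1, fun u v => by rw [SB.Tor.O_symm o.o, one_mul], Or.inr ⟨rfl, rfl⟩,
    fun x hx v => by rw [one_mul, (SB.Tor.mem_L_O o.o x).1 hx], fun e t he ht => ?_, fun n l hl h1 h2 hn => ?_⟩
  · rw [hq] at he ⊢
    exact o.eich he ht
  simp only [hq] at hn
  have h3 : star n * star n = 0 := by rw [← star_mul, h1, star_zero]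
  have a1 : ∀ x, n * (n * x) = 0 := fun x => by rw [← mul_assoc, h1, zero_mul]
  have a2 : ∀ x, star n * (n * x) = 0 := fun x => by rw [← mul_assoc, h2, zero_mul]
  have a3 : ∀ x, star n * (star n * x) = 0 := fun x => by rw [← mul_assoc, h3, zero_mul]
  have b0 : ∀ u v, h.b (h.ap n u) (h.ap n v) = 0 := fun u v => by
    rw [← h.b_star, ← h.ap_mul, h2]; exact h.zero_right u
  have b1 : ∀ a, ∃ g ∈ (⁅F.Iso, F.Iso⁆ : Subgroup h.EBˣ), ∃ b,
      (g : h.EB) = 1 + n * a * n - star (n * a * n) - n * b * star n := by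
    refine ro_ind _ ⟨1, one_mem _, 0, by simp⟩ ?_ fun u v => ?_
    · rintro a a' ⟨g, hg, b, e⟩ ⟨g', hg', b', e'⟩
      refine ⟨g * g', mul_mem hg hg', b + b' + a * n * star n * star a', ?_⟩
      rw [Units.val_mul, e, e']
      simp only [star_add, star_mul, mul_sub, sub_mul, mul_add, add_mul, mul_assoc, one_mul, mul_one, a1, a2, a3, mul_zero]
      abel
    · obtain ⟨g, hg, e⟩ := o.eich (e := h.ap n u) (t := -h.ap (star n) v) (hn u) (by
        rw [← zero_sub, h.sub_left, h.zero_left, h.star_b, ← h.ap_mul, h1, zero_sub, neg_eq_zero]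
        exact h.zero_right v)
      refine ⟨g, hg, h.eb (Q (h.ap (star n) v) • h.ro u u), h.ap_ext fun x => ?_⟩
      simp only [e, star_mul, h.ap_sub, h.ap_add, h.ap_mul, h.ap_one, ap_star_ro, h.ap_eb, h.ro_apply, map_smul,
        LinearMap.smul_apply, o.o.1, QuadraticMap.map_neg, h.b_star, h.star_b]
      rw [← zero_sub, h.sub_right, h.zero_right, h.b_star, SB.Tor.O_symm o.o x]
      module
  have b2 : ∀ a, ∃ g ∈ (⁅F.Iso, F.Iso⁆ : Subgroup h.EBˣ),
      (g : h.EB) = 1 + (n * a * star n - star (n * a * star n)) := by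
    refine ro_ind _ ⟨1, one_mem _, by simp⟩ ?_ fun u v => ?_
    · rintro a a' ⟨g, hg, e⟩ ⟨g', hg', e'⟩
      refine ⟨g * g', mul_mem hg hg', ?_⟩
      rw [Units.val_mul, e, e']
      simp only [star_add, star_mul, star_star, mul_sub, sub_mul, mul_add, add_mul, mul_assoc, one_mul, mul_one, a2,
        mul_zero]
      abel
    · obtain ⟨g, hg, e⟩ := o.eich (e := h.ap n v) (t := h.ap n u) (hn v) (b0 u v)
      refine ⟨g, hg, h.ap_ext fun x => ?_⟩
      simp only [e, star_mul, star_star, h.ap_sub, h.ap_add, h.ap_mul, h.ap_one, ap_star_ro, h.ap_eb, h.ro_apply,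
        map_smul, o.o.1, h.b_star, h.star_b, hn]
      rw [SB.Tor.O_symm o.o (h.ap n u) x]
      module
  obtain ⟨y, hy⟩ := h.ss.regular n
  obtain ⟨g, hg, b, e⟩ := b1 y
  rw [hy] at e
  have b3 : n * (b - l) * star n ∈ F.L := (SB.Tor.mem_L_O o.o _).2 fun x => by
    have c1 := (SB.Tor.mem_Iso_O o.o g).1 (F.comm_le_Iso hg) x
    have c2 : h.ap g x = x - h.ap (star n) x + h.ap n (x - h.ap b (h.ap (star n) x)) := by
      rw [e, map_sub, h.ap_sub, h.ap_sub, h.ap_add, h.ap_mul, h.ap_mul, h.ap_one]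
      abel
    have c3 := SB.Tor.O_add o.o (x - h.ap (star n) x) (h.ap (star n) x)
    have c4 := (SB.Tor.mem_L_O o.o _).1 hl (h.ap (star n) x)
    have c5 : h.ap (star n) (h.ap (star n) x) = 0 := by rw [← h.ap_mul, h3]; rfl
    rw [c2, SB.Tor.O_add o.o, hn, ← h.star_b, map_sub (h.ap (star n)), c5, sub_zero, h.sub_right] at c1
    rw [sub_add_cancel, h.sub_left, SB.Tor.O_self o.o, SB.Tor.O_symm o.o x] at c3
    rw [h.ap_sub, h.sub_right, o.o.2.2.2] at c4
    rw [h.ap_mul, h.ap_mul, ← h.star_b, h.ap_sub, h.sub_right]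
    linear_combination c4 - c1 - c3
  rw [o.o.2.2.1] at b3
  obtain ⟨a, ha⟩ := b3
  obtain ⟨g', hg', e'⟩ := b2 (y * a * star y)
  have b4 : n * (y * a * star y) * star n - star (n * (y * a * star y) * star n) = n * (b - l) * star n := by
    have c1 : star n * star y * star n = star n := by rw [← star_mul, ← star_mul, ← mul_assoc, hy]
    calc _ = n * y * (a - star a) * star y * star n := by simp only [star_mul, star_star]; noncomm_ring
      _ = n * y * n * (b - l) * (star n * star y * star n) := by rw [← ha]; noncomm_ring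
      _ = _ := by rw [hy, c1]
  refine ⟨g * g', mul_mem hg hg', ?_⟩
  rw [Units.val_mul, e, e', b4]
  simp only [mul_sub, sub_mul, mul_add, add_mul, mul_assoc, one_mul, mul_one, a1, a2, mul_zero]
  abel

end Cfsg.Agent.TH.Cl.FSO
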