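import Cfsg.Agent.TH.Cl.FldSO.Gen

/-!
# S3541, symplectic and orthogonal groups: no invariant pair of totally singular subspaces (helper94)
-/

set_option autoImplicit false
set_option linter.unusedSectionVars false

namespace Cfsg.Agent.TH.Cl.FSO

open Cfsg.Agent.DS.Cl Cfsg.Agent.DS.Cl.Fwd Cfsg.Agent.SB.Cl Cfsg.Agent.SB.C2 Cfsg.Agent.TH.Cl.Fld Module

local notation "cA" => Cfsg.Agent.DS.Cl.cj

section ring

variable {A : Type} [Ring A] [StarRing A] [Finite A] {F : FR A} {G H : Subgroup (RingAut A)} {m p : ℕ} {ε : A}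

theorem pair_main (c : Ctx F G H m p) (hH : Inv H {ε, star ε}) (h1 : ε * ε = ε) (h2 : ε + star ε = 1) {g g' : Aˣ}
    (hg : g ∈ (⁅F.Iso, F.Iso⁆ : Subgroup Aˣ)) (hg' : g' ∈ (⁅F.Iso, F.Iso⁆ : Subgroup Aˣ)) {φ ψ : A} (e : (g : A) = 1 + φ)
    (e' : (g' : A) = 1 + ψ) (a1 : ε * φ = φ) (a2 : φ * ε = 0) (a3 : ε * ψ = 0) (a4 : ψ * ε = ψ) (a5 : φ ≠ 0) {X : Type}
    (x : X → A) (hx : Function.Injective x) (x1 : ∀ a, x a * ε = x a ∧ φ * ψ * x a = -x a ∧ x a * (φ * ψ) = 0)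
    (x2 : ∀ a, ∃ w ∈ (⁅F.Iso, F.Iso⁆ : Subgroup Aˣ), (w : A) = 1 + (x a - star (x a))) : Nat.card X ≤ 2 := by
  have s1 : star ε = 1 - ε := eq_sub_of_add_eq' h2
  have s2 : ε * star ε = 0 := by rw [s1, mul_sub, h1, mul_one, sub_self]
  have s3 : star ε * ε = 0 := by rw [s1, sub_mul, h1, one_mul, sub_self]
  have i1 : ∀ {u : Aˣ} {z : A}, (u : A) = 1 + z → z * z = 0 → ((u⁻¹ : Aˣ) : A) = 1 - z := fun hu hz =>
    (Units.eq_inv_of_mul_eq_one_left (by rw [hu, add_mul, mul_sub, mul_sub, hz]; simp)).symm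
  have b1 : cA A g ε = ε - φ := by
    rw [cj_apply, i1 e (by rw [← a1, mul_assoc, ← mul_assoc φ, a2, zero_mul, mul_zero]), e, add_mul, a2, one_mul,
      add_zero, mul_sub, mul_one, a1]
  have b2 : ε * cA A (g' * g) ε * ε = ε + φ * ψ := by
    rw [map_mul, ra_mul, b1, cj_apply, i1 e' (by rw [← a4, mul_assoc, ← mul_assoc ε, a3, zero_mul, mul_zero]), e',
      ← mul_assoc, ← mul_assoc, mul_add, a3, mul_assoc, sub_mul, a4, add_zero, mul_one, mul_sub ε, h1, a1, one_mul,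
      sub_mul, mul_sub, mul_sub, h1, a2, a3]
    abel
  have hS : ¬ Inv F.S {ε, star ε} := fun hS => by
    rcases hS _ (cj_mem_S hg) ε (Or.inl rfl) with h3 | h3 <;> rw [b1] at h3
    · exact a5 (sub_eq_self.1 h3)
    · have h4 := congrArg (star ε * ·) (show ε - φ = star ε from h3)
      simp only [mul_sub, s3, ← star_mul, h1] at h4
      rw [← a1, ← mul_assoc, s3, zero_mul, sub_zero] at h4
      rw [← h4, add_zero] at h2
      exact a5 (by rw [← a2, h2, mul_one])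
  obtain ⟨P, S, hP⟩ := allSyl c hH hS (r := 2) (fun M hM => by
    have k1 : ∀ γ : M, γ.1 ε = ε ∨ γ.1 ε = star ε := fun γ => hH _ (hM γ.2).1 ε (Or.inl rfl)
    rw [← Nat.card_eq_two_iff.2 ⟨True, False, true_ne_false, eq_top_iff.2 fun a _ => by by_cases a <;> simp [*]⟩]
    refine Nat.card_le_card_of_injective (fun y : M ⧸ (DS.Cl.Fix {ε, star ε}).subgroupOf M => y.out.1 ε = ε)
      fun y z hyz => ?_
    have k2 : y.out.1 ε = z.out.1 ε := by
      by_cases k2 : y.out.1 ε = ε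
      · exact k2.trans (Eq.mp hyz k2).symm
      · exact ((k1 _).resolve_left k2).trans ((k1 _).resolve_left fun k3 => k2 (Eq.mpr hyz k3)).symm
    have k3 : (y.out.1⁻¹ * z.out.1) ε = ε := by rw [ra_mul, ← k2, ra_inv_apply]
    rw [← y.out_eq', ← z.out_eq', QuotientGroup.eq]
    rintro _ (rfl | rfl)
    · exact k3
    · exact (c.le_SAut (hM (y.out⁻¹ * z.out).2).1 ε).trans (congrArg star k3)) _ (mul_mem hg' hg)
  have b3 : ∀ u ∈ P, (u : A) * (φ * ψ) = φ * ψ * u := fun u hu => by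
    have k1 := S.comm u hu ε (Or.inl rfl)
    have k2 := hP u hu ε (Or.inl rfl)
    have k3 : (u : A) * (ε + φ * ψ) = (ε + φ * ψ) * u := by
      rw [← b2, ← mul_assoc, ← mul_assoc, k1, mul_assoc ε, k2, mul_assoc, mul_assoc, k1]
      simp only [mul_assoc]
    rwa [mul_add, add_mul, k1, add_right_inj] at k3
  have b4 : ε * (φ * ψ) = φ * ψ := by rw [← mul_assoc, a1]
  have b5 : φ * ψ * ε = φ * ψ := by rw [mul_assoc, a4]
  generalize φ * ψ = π at x1 b3 b4 b5
  have c1 : ∀ {x : A}, π * x = -x → ε * x = x := fun {x} hx => by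
    rw [← neg_inj, ← mul_neg, ← hx, ← mul_assoc, b4]
  have c2 : ∀ {x : A}, x * ε = x → ε * star x = 0 := fun {x} hx => by
    rw [← hx, star_mul, ← mul_assoc, s2, zero_mul]
  have c3 : ∀ {x : A}, π * x = -x → star x * ε = 0 := fun {x} hx => by
    rw [← c1 hx, star_mul, mul_assoc, s3, mul_zero]
  have c4 : ∀ {x y : A}, x * π = 0 → π * y = -y → x * y = 0 := fun {x y} hx hy => by
    rw [← neg_eq_zero, ← mul_neg, ← hy, ← mul_assoc, hx, zero_mul]
  have c5 : ∀ x y : A, x * ε = x ∧ π * x = -x ∧ x * π = 0 → y * ε = y ∧ π * y = -y ∧ y * π = 0 →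
      (x - star x) * (y - star y) = 0 := fun x y hx hy => by
    rw [sub_mul, mul_sub, mul_sub, c4 hx.2.2 hy.2.1, ← star_mul, c4 hy.2.2 hx.2.1, ← hx.1, mul_assoc, c2 hy.1,
      ← c1 hy.2.1, ← mul_assoc, hx.1, c3 hx.2.1]
    simp
  let J : NonUnitalSubring A :=
    { carrier := {j | ∃ x, (x * ε = x ∧ π * x = -x ∧ x * π = 0) ∧ j = x - star x}
      add_mem' := by
        rintro _ _ ⟨x, hx, rfl⟩ ⟨y, hy, rfl⟩
        exact ⟨x + y, ⟨by rw [add_mul, hx.1, hy.1], by rw [mul_add, hx.2.1, hy.2.1, neg_add], by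
          rw [add_mul, hx.2.2, hy.2.2, add_zero]⟩, by rw [star_add]; abel⟩
      zero_mem' := ⟨0, by simp, by simp⟩
      mul_mem' := by
        rintro _ _ ⟨x, hx, rfl⟩ ⟨y, hy, rfl⟩
        exact ⟨0, by simp, by rw [c5 x y hx hy]; simp⟩
      neg_mem' := by
        rintro _ ⟨x, hx, rfl⟩
        exact ⟨-x, ⟨by rw [neg_mul, hx.1], by rw [mul_neg, hx.2.1], by rw [neg_mul, hx.2.2, neg_zero]⟩, by
          rw [star_neg]; abel⟩ }
  choose w w1 w2 using x2
  refine S.fam J ?_ ?_ ?_ π b3 X w w1 (fun a => ⟨x a, x1 a, by rw [w2, add_sub_cancel_left]⟩) fun a b hab => hx ?_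
  · rintro _ ⟨x, hx, rfl⟩
    exact ⟨2, by rw [pow_two, c5 x x hx hx]⟩
  · rintro _ ⟨x, hx, rfl⟩
    have k1 : ε * (x - star x) = (x - star x) * ε := by rw [mul_sub, sub_mul, c1 hx.2.1, hx.1, c2 hx.1, c3 hx.2.1]
    rintro _ (rfl | rfl)
    · exact k1
    · rw [s1, sub_mul, mul_sub _ 1, k1, one_mul, mul_one]
  · rintro u hu _ ⟨x, hx, rfl⟩
    have k1 := cj_eq_of_mul (S.comm u hu ε (Or.inl rfl))
    have k2 := cj_eq_of_mul (b3 u hu)
    exact ⟨cA A u x, ⟨by rw [← k1, ← map_mul, hx.1], by rw [← map_neg, ← hx.2.1, map_mul, k2], by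
      rw [← k2, ← map_mul, hx.2.2, map_zero]⟩, by rw [map_sub, F.Aut_le_SAut (FR.cj_mem_Aut (S.iso hu))]⟩
  · have k1 : ∀ a, cA A (w a) π = π + x a := fun a => by
      rw [cj_apply, i1 (w2 a) (c5 _ _ (x1 a) (x1 a)), w2, add_mul, sub_mul, (x1 a).2.2, ← b4, ← mul_assoc (star _),
        c3 (x1 a).2.1, b4, one_mul, zero_mul, sub_zero, add_zero, mul_sub, mul_sub, (x1 a).2.1, ← b5, mul_assoc π ε (star _),
        c2 (x1 a).1, b5]
      simp
    rwa [k1, k1, add_right_inj] at hab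

theorem pair_l (c : Ctx F G H m p) (hI : Irr H) (hH : Inv H {ε, star ε}) (h2 : ε + star ε = 1) : F.l - ε ∈ F.L := by
  refine FR.mem_L_of_inv c.ss c.le_SAut hI ?_ fun γ hγ => ?_
  · rw [star_sub, eq_sub_of_add_eq' h2, eq_sub_of_add_eq' F.l_add]
    abel
  · have h3 : ε - γ ε ∈ F.L := by
      rcases hH γ hγ ε (Or.inl rfl) with h3 | h3
      · rw [h3, sub_self]; exact zero_mem _
      · rw [show γ ε = star ε from h3]; exact F.sub_star_mem ε
    convert F.L.add_mem (c.H_le_Aut hγ).2 h3 using 1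
    rw [map_sub]
    abel

end ring

variable {K V : Type} [Field K] [Fintype K] [AddCommGroup V] [Module K V] [Finite V] {h : HF K V} {F : FR h.EB} {s κ : K}

theorem SO.ss (o : SO h F s κ) : s * s = 1 := by rcases o.alt with e | e <;> rw [e.1] <;> ring

theorem SO.orth (o : SO h F s κ) {u v : V} (e : h.b u v = 0) : h.b v u = 0 := by rw [o.sw, e, mul_zero]

theorem SO.star_ro (o : SO h F s κ) (u v x : V) : h.ap (star (h.eb (h.ro u v))) x = (s * h.b x u) • v := by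
  rw [ap_star_ro, o.tau, o.sw]

theorem SO.qf_eq (o : SO h F s κ) {l : h.EB} (hl : F.l - l ∈ F.L) (x : V) : qf h F κ x = κ * h.b x (h.ap l x) := by
  have h1 := o.L _ hl x
  rw [h.ap_sub, h.sub_right, mul_sub, sub_eq_zero] at h1
  exact h1

theorem SO.qf_smul (o : SO h F s κ) (c : K) (x : V) : qf h F κ (c • x) = c * c * qf h F κ x := by
  rw [qf, qf, map_smul, h.smul_left, h.smul_right, o.tau]; ring

/-- long root elements -/
theorem SO.nil (o : SO h F s κ) {e t : V} (he : qf h F κ e = 0) (ht : qf h F κ t = 0) (h0 : h.b t e = 0) :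
    ∃ g ∈ (⁅F.Iso, F.Iso⁆ : Subgroup h.EBˣ), (g : h.EB) = 1 + (h.eb (h.ro e t) - star (h.eb (h.ro e t))) := by
  obtain ⟨g, hg, e1⟩ := o.eich e ((-s) • t) he (by rw [h.smul_left, h0, mul_zero])
  refine ⟨g, hg, h.ap_ext fun x => ?_⟩
  rw [e1, o.qf_smul, ht, h.ap_add, h.ap_sub, o.star_ro, h.ap_eb, h.ro_apply, h.ap_one, h.smul_right, o.tau]
  match_scalars
  · ring
  · ring
  · linear_combination h.b x t * o.ss

theorem finrank_le_ker {U : Type} [AddCommGroup U] [Module K U] [Module.Finite K U] (W : Submodule K V) (f : V →ₗ[K] U) :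
    finrank K W ≤ finrank K (LinearMap.ker (f.domRestrict W)) + finrank K U := by
  have : Module.Finite K V := Module.Finite.of_finite
  have h1 := (f.domRestrict W).finrank_range_add_finrank_ker
  have h2 := Submodule.finrank_le (LinearMap.range (f.domRestrict W))
  omega

variable {G H : Subgroup (RingAut h.EB)} {m p : ℕ} {ε : h.EB}

theorem pair_wlog (h1 : ε * ε = ε) (h2 : ε + star ε = 1) : finrank K V ≤ 2 * finrank K (LinearMap.ker (h.ap ε)) ∨
    finrank K V ≤ 2 * finrank K (LinearMap.ker (h.ap (star ε))) := by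
  have : Module.Finite K V := Module.Finite.of_finite
  have h3 := (h.ap ε).finrank_range_add_finrank_ker
  have h4 : LinearMap.range (h.ap ε) ≤ LinearMap.ker (h.ap (star ε)) := by
    rintro _ ⟨x, rfl⟩
    rw [LinearMap.mem_ker, ← h.ap_mul, eq_sub_of_add_eq' h2, sub_mul, h1, one_mul, sub_self]
    rfl
  have h5 := Submodule.finrank_mono h4
  omega

section

variable (o : SO h F s κ) (h1 : ε * ε = ε) (h2 : ε + star ε = 1)
include o h1 h2

omit o h1 in
theorem star_ker {f : V} (hf : h.ap ε f = 0) : h.ap (star ε) f = f := by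
  rw [eq_sub_of_add_eq' h2, h.ap_sub, hf, sub_zero, h.ap_one]

omit o h1 in
theorem star_ran {v : V} (hv : h.ap ε v = v) : h.ap (star ε) v = 0 := by
  rw [eq_sub_of_add_eq' h2, h.ap_sub, hv, h.ap_one, sub_self]

omit o in
theorem exists_dual {f : V} (hf : h.ap ε f = 0) (h0 : f ≠ 0) : ∃ v, h.ap ε v = v ∧ h.b v f = 1 := by
  obtain ⟨u, hu⟩ := h.exists_ne h0
  exact ⟨(h.b u f)⁻¹ • h.ap ε u, by rw [map_smul, ← h.ap_mul, h1], by
    rw [h.smul_left, ← h.b_star, star_ker h2 hf, inv_mul_cancel₀ hu]⟩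

omit h1 in
theorem qf_pair (hl : F.l - ε ∈ F.L) {x : V} (hx : h.ap ε x = x ∨ h.ap ε x = 0) : qf h F κ x = 0 := by
  rw [o.qf_eq hl]
  rcases hx with hx | hx
  · rw [← h.star_b, star_ran h2 hx, h.zero_left, mul_zero]
  · rw [hx, h.zero_right, mul_zero]

/-- the family of transvections of `ε V` -/
theorem pair_vec (c : Ctx F G H m p) (hI : Irr H) (hH : Inv H {ε, star ε}) {g g' : h.EBˣ}
    (hg : g ∈ (⁅F.Iso, F.Iso⁆ : Subgroup h.EBˣ)) (hg' : g' ∈ (⁅F.Iso, F.Iso⁆ : Subgroup h.EBˣ)) {φ ψ : h.EB}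
    (e : (g : h.EB) = 1 + φ) (e' : (g' : h.EB) = 1 + ψ) (a1 : ε * φ = φ) (a2 : φ * ε = 0) (a3 : ε * ψ = 0) (a4 : ψ * ε = ψ)
    {v : V} (v0 : v ≠ 0) (hv : h.ap (φ * ψ) v = -v) {U : Type} [AddCommGroup U] [Module K U] [Module.Finite K U]
    (f : V →ₗ[K] U) (hf : ∀ y, f y = 0 → ∀ x, h.b (h.ap φ x) y = 0) :
    Fintype.card K ^ (finrank K (LinearMap.ker (h.ap ε)) - finrank K U) ≤ 2 := by
  have hl := pair_l c hI hH h2
  have v1 : h.ap ε v = v := by rw [← neg_inj, ← map_neg, ← hv, ← h.ap_mul, ← mul_assoc, a1]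
  have h3 := pair_main c hH h1 h2 hg hg' e e' a1 a2 a3 a4 (fun h0 => v0 (by
      rw [← neg_eq_zero, ← hv, h0, zero_mul]; rfl)) (X := LinearMap.ker (f.domRestrict (LinearMap.ker (h.ap ε))))
    (fun a => h.eb (h.ro v a.1.1)) (fun a b hab => Subtype.ext (Subtype.ext (h.ext_right fun u =>
      smul_left_injective K v0 (LinearMap.congr_fun hab u)))) (fun a => ⟨h.ap_ext fun x => ?_, h.ap_ext fun x => ?_,
      h.ap_ext fun x => ?_⟩) fun a => o.nil (qf_pair o h2 hl (Or.inl v1)) (qf_pair o h2 hl (Or.inr a.1.2)) (o.orth ?_)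
  · refine le_trans (Nat.pow_le_pow_right Fintype.card_pos ?_) (le_of_eq_of_le
      ((Module.natCard_eq_pow_finrank (K := K)).trans (by rw [Nat.card_eq_fintype_card])).symm h3)
    have := finrank_le_ker (LinearMap.ker (h.ap ε)) f
    omega
  · rw [h.ap_mul, h.ap_eb, h.ro_apply, h.ro_apply, ← h.b_star, star_ker h2 a.1.2]
  · rw [h.ap_mul, h.ap_eb, h.ro_apply, map_smul, hv, smul_neg]
    rfl
  · rw [h.ap_mul, h.ap_eb, h.ro_apply, h.ap_mul, hf a.1.1 a.2, zero_smul]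
    rfl
  · rw [← neg_eq_zero, ← zero_sub, ← h.zero_left a.1.1, ← h.sub_left, zero_sub, ← hv, h.ap_mul, hf a.1.1 a.2, h.zero_left]

end

theorem KSp.pair {k : ℕ} (o : KSp h F k) (c : Ctx F G H m p) (hI : Irr H) (hH : Inv H {ε, star ε}) (h1 : ε * ε = ε)
    (h2 : ε + star ε = 1) : False := by
  have hk := o.two
  have hd := o.dim
  wlog h3 : finrank K V ≤ 2 * finrank K (LinearMap.ker (h.ap ε)) generalizing ε
  · exact this (ε := star ε) (by rwa [star_star, Set.pair_comm]) (by rw [← star_mul, h1]) (by rw [star_star, add_comm, h2])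
      ((pair_wlog h1 h2).resolve_left h3)
  have : Nontrivial (LinearMap.ker (h.ap ε)) := Module.nontrivial_of_finrank_pos (R := K) (by omega)
  obtain ⟨⟨f, hf⟩, f0⟩ := exists_ne (0 : LinearMap.ker (h.ap ε))
  obtain ⟨v, hv, hvf⟩ := exists_dual h1 h2 hf fun e => f0 (Subtype.ext e)
  have key : ∀ y, ∃ g ∈ (⁅F.Iso, F.Iso⁆ : Subgroup h.EBˣ), (g : h.EB) = 1 + h.eb (h.ro y y) := fun y => by
    obtain ⟨g, hg, e⟩ := o.eich (e := y) (h.zero_left y) (-1)
    exact ⟨g, hg, h.ap_ext fun x => by rw [e, h.zero_right, h.ap_add, h.ap_eb, h.ro_apply, h.ap_one]; module⟩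
  obtain ⟨g, hg, e⟩ := key v
  obtain ⟨g', hg', e'⟩ := key f
  have h4 := pair_vec (KSp.so o) h1 h2 c hI hH hg hg' e e'
    (h.ap_ext fun x => by rw [h.ap_mul, h.ap_eb, h.ro_apply, map_smul, hv])
    (h.ap_ext fun x => by rw [h.ap_mul, h.ap_eb, h.ro_apply, ← h.b_star, star_ran h2 hv, h.zero_right, zero_smul]; rfl)
    (h.ap_ext fun x => by rw [h.ap_mul, h.ap_eb, h.ro_apply, map_smul, hf, smul_zero]; rfl)
    (h.ap_ext fun x => by rw [h.ap_mul, h.ap_eb, h.ro_apply, h.ro_apply, ← h.b_star, star_ker h2 hf]) (v := v)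
    (fun e => by rw [e, h.zero_left] at hvf; exact zero_ne_one hvf)
    (by rw [h.ap_mul, h.ap_eb, h.ap_eb, h.ro_apply, h.ro_apply, hvf, one_smul, IsSp.swap o.sp, hvf, neg_one_smul])
    (h.lin v) fun y hy x => by
      rw [h.ap_eb, h.ro_apply, h.smul_left, IsSp.swap o.sp y, show h.b y v = 0 from hy, neg_zero, mul_zero]
  rw [finrank_self] at h4
  have h5 : 1 < Fintype.card K := Fintype.one_lt_card
  by_cases h6 : k = 2
  · have h7 := o.ne h6
    have h8 := (Nat.pow_le_pow_right Fintype.card_pos (show 1 ≤ _ by omega)).trans h4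
    rw [pow_one] at h8
    omega
  · have h8 := (Nat.pow_le_pow_right Fintype.card_pos (show 2 ≤ _ by omega)).trans h4
    nlinarith

theorem KO.pair {Q : QuadraticForm K V} (o : KO h F Q) (c : Ctx F G H m p) (hI : Irr H) (hH : Inv H {ε, star ε})
    (h1 : ε * ε = ε) (h2 : ε + star ε = 1) : False := by
  have hd := o.dim
  wlog h3 : finrank K V ≤ 2 * finrank K (LinearMap.ker (h.ap ε)) generalizing ε
  · exact this (ε := star ε) (by rwa [star_star, Set.pair_comm]) (by rw [← star_mul, h1]) (by rw [star_star, add_comm, h2])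
      ((pair_wlog h1 h2).resolve_left h3)
  have so := KO.so o
  have hl := pair_l c hI hH h2
  have sy := SB.Tor.O_symm o.o
  have : Nontrivial (LinearMap.ker (h.ap ε)) := Module.nontrivial_of_finrank_pos (R := K) (by omega)
  obtain ⟨⟨f, hf⟩, f0⟩ := exists_ne (0 : LinearMap.ker (h.ap ε))
  obtain ⟨v, hv, hvf⟩ := exists_dual h1 h2 hf fun e => f0 (Subtype.ext e)
  have : Nontrivial (LinearMap.ker ((h.lin v).domRestrict (LinearMap.ker (h.ap ε)))) :=
    Module.nontrivial_of_finrank_pos (R := K) (by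
      have := finrank_le_ker (LinearMap.ker (h.ap ε)) (h.lin v)
      rw [finrank_self] at this
      omega)
  obtain ⟨⟨⟨f', hf'⟩, k1⟩, f0'⟩ := exists_ne (0 : LinearMap.ker ((h.lin v).domRestrict (LinearMap.ker (h.ap ε))))
  replace k1 : h.b f' v = 0 := k1
  obtain ⟨v', hv', k2, k3⟩ : ∃ v', h.ap ε v' = v' ∧ h.b v' f' = 1 ∧ h.b v' f = 0 := by
    obtain ⟨y, hy, k2⟩ := exists_dual h1 h2 hf' fun e => f0' (Subtype.ext (Subtype.ext e))
    exact ⟨y - h.b y f • v, by rw [map_sub, map_smul, hy, hv], by rw [h.sub_left, h.smul_left, sy v, k1, k2]; ring,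
      by rw [h.sub_left, h.smul_left, hvf]; ring⟩
  obtain ⟨g, hg, e⟩ := so.nil (qf_pair so h2 hl (Or.inl hv)) (qf_pair so h2 hl (Or.inl hv'))
    (by rw [← hv', ← h.b_star, star_ran h2 hv, h.zero_right])
  obtain ⟨g', hg', e'⟩ := so.nil (qf_pair so h2 hl (Or.inr hf)) (qf_pair so h2 hl (Or.inr hf'))
    (by rw [← star_ker h2 hf', h.star_b, hf, h.zero_right])
  have k0 : ∀ u v x, h.ap (h.eb (h.ro u v) - star (h.eb (h.ro u v))) x = h.b x v • u - h.b x u • v := fun u v x => by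
    rw [h.ap_sub, so.star_ro, one_mul]; rfl
  have h4 := pair_vec so h1 h2 c hI hH hg hg' e e'
    (h.ap_ext fun x => by rw [h.ap_mul, k0, map_sub, map_smul, map_smul, hv, hv'])
    (h.ap_ext fun x => by
      rw [h.ap_mul, k0, ← h.b_star, ← h.b_star, star_ran h2 hv, star_ran h2 hv', h.zero_right]; simp [SB.Tor.ap_zero])
    (h.ap_ext fun x => by rw [h.ap_mul, k0, map_sub, map_smul, map_smul, hf, hf']; simp [SB.Tor.ap_zero])
    (h.ap_ext fun x => by rw [h.ap_mul, k0, k0, ← h.b_star, ← h.b_star, star_ker h2 hf, star_ker h2 hf']) (v := v)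
    (fun e => by rw [e, h.zero_left] at hvf; exact zero_ne_one hvf)
    (by
      rw [h.ap_mul, k0, k0, sy v f', k1, hvf, zero_smul, one_smul, h.sub_left, h.sub_left, h.zero_left, h.zero_left, k1,
        sy f', k2]
      simp)
    ((h.lin v).prod (h.lin v')) fun y hy x => by
      rw [k0, h.sub_left, h.smul_left, h.smul_left, sy v, sy v', show h.b y v = 0 from congrArg Prod.fst hy,
        show h.b y v' = 0 from congrArg Prod.snd hy]
      ring
  rw [finrank_prod, finrank_self] at h4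
  have h5 : 1 < Fintype.card K := Fintype.one_lt_card
  have h8 := (Nat.pow_le_pow_right Fintype.card_pos (show 2 ≤ _ by omega)).trans h4
  nlinarith

end Cfsg.Agent.TH.Cl.FSO
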