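import Cfsg.Agent.TH.Cl.FldSO.Two

/-!
# S3541, the groups `GU₂(q) < Sp₄(q)` and `Sp₂(q ^ r) < Sp₂ᵣ(q)` (helper94)
-/

set_option autoImplicit false
set_option linter.unusedSectionVars false

namespace Cfsg.Agent.TH.Cl.FSO.FE

open Cfsg.Agent.DS.Cl Cfsg.Agent.DS.Cl.Fwd Cfsg.Agent.SB.Cl Cfsg.Agent.SB.C2 Cfsg.Agent.TH.Cl.Fld Module
open Cfsg.Agent.SB.Tor (ap_zero ap_inv_ap ap_ap_inv)

local notation "cA" => Cfsg.Agent.DS.Cl.cj

theorem lt_pow {q r : ℕ} (hq : 2 ≤ q) (hr : 2 ≤ r) (h : r = 2 → 3 ≤ q) : r < q ^ (r - 1) := by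
  obtain ⟨n, rfl⟩ := Nat.exists_eq_add_of_le' hr
  rcases n with _ | n
  · exact (pow_one q).symm ▸ h rfl
  clear h hr
  change n + 3 < q ^ (n + 2)
  induction n with
  | zero => rw [zero_add, zero_add, pow_two]; nlinarith
  | succ n ih => rw [pow_succ]; nlinarith

variable {K V : Type} [Field K] [Fintype K] [AddCommGroup V] [Module K V] [Finite V] [Nontrivial V] {h : HF K V}
  {E : Type} [Field E] [Fintype E] [DecidableEq E] [Algebra K E] [Module E V] [IsScalarTower K E V] {f : FE h E}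
  {F : FR h.EB} {k r p : ℕ} {l : h.EB} {P : Subgroup h.EBˣ}

theorem cj_maps {g : h.EBˣ} {a : h.EB} {M : Set V} (hg : Set.MapsTo (h.ap g) M M) (ha : Set.MapsTo (h.ap a) M M) :
    Set.MapsTo (h.ap (cA h.EB g a)) M M := fun x hx => by
  obtain ⟨y, hy, rfl⟩ := (((Set.toFinite M).injOn_iff_bijOn_of_mapsTo hg).1
    (Function.LeftInverse.injective (ap_inv_ap h g)).injOn).surjOn hx
  rw [ap_cj]
  exact hg (ha hy)

variable (o : KSp h F k)
include o

/-- the transvections over `E` -/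
theorem sp_fam (S : Syl F f.ι.range r p P) {e : V} (he : f.β e e = 0) (hf : ∀ u ∈ P, h.ap u e = e) {π : h.EB}
    (hP : ∀ u ∈ P, (u : h.EB) * π = π * u) {X : Type} (c : X → E) (hc : ∀ x, f.σ (c x) = c x)
    (hi : ∀ x y, f.ι (c x - c y) * f.τ e e * π = π * (f.ι (c x - c y) * f.τ e e) → x = y) : Nat.card X ≤ r := by
  have a0 := f.τ_mem e e
  have a1 : star (f.τ e e) = -f.τ e e := h.ap_ext fun x => by
    rw [f.star_τ (KSp.so o), ap_neg, f.ap_τ, map_neg, map_one, neg_one_mul, neg_smul]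
  have a2 : f.τ e e * f.τ e e = 0 := h.ap_ext fun x => by
    rw [h.ap_mul, f.ap_τ e e x, f.lin a0, f.ap_τ, he, zero_smul, smul_zero, ap_zero]
  have a3 : ∀ u ∈ P, (u : h.EB) * f.τ e e = f.τ e e * u := fun u hu => h.ap_ext fun x => by
    rw [h.ap_mul, h.ap_mul, f.ap_τ, f.ap_τ, f.lin (f.syl_C S hu), ← f.β_iso (f.syl_C S hu) (S.iso hu).1, hf u hu]
  generalize f.τ e e = N at a0 a1 a2 a3 hi
  have a4 : ∀ z z', f.ι z * N * (f.ι z' * N) = 0 := fun z z' => by
    rw [f.mem_C.1 a0 z', mul_assoc, ← mul_assoc N, a2, zero_mul, mul_zero]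
  have a5 : ∀ x, star (f.ι (c x) * N) = -(f.ι (c x) * N) := fun x => by
    rw [star_mul, a1, f.star_ι, hc, f.mem_C.1 a0, neg_mul]
  let J : NonUnitalSubring h.EB :=
    { carrier := {j | ∃ z, j = f.ι z * N}
      add_mem' := by rintro _ _ ⟨z, rfl⟩ ⟨z', rfl⟩; exact ⟨z + z', by rw [map_add, add_mul]⟩
      zero_mem' := ⟨0, by rw [map_zero, zero_mul]⟩
      mul_mem' := by rintro _ _ ⟨z, rfl⟩ ⟨z', rfl⟩; exact ⟨0, by rw [a4, map_zero, zero_mul]⟩
      neg_mem' := by rintro _ ⟨z, rfl⟩; exact ⟨-z, by rw [map_neg, neg_mul]⟩ }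
  refine S.fam J ?_ ?_ ?_ π hP X (fun x => mkU _ (uni_one_add (a5 x) (a4 _ _)))
    (fun x => o.mem_comm (mem_Iso_max o.sp.2.2 (uni_one_add (a5 x) (a4 _ _))))
    (fun x => ⟨c x, add_sub_cancel_left _ _⟩) fun x y hxy => hi x y ?_
  · rintro _ ⟨z, rfl⟩
    exact ⟨2, by rw [pow_two, a4]⟩
  · rintro _ ⟨z, rfl⟩ _ ⟨y, rfl⟩
    exact f.mem_C.1 (mul_mem (f.ι_mem z) a0) y
  · rintro u hu _ ⟨z, rfl⟩
    exact ⟨z, cj_eq_of_mul (by rw [← mul_assoc, ← f.mem_C.1 (f.syl_C S hu), mul_assoc, a3 u hu, mul_assoc])⟩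
  · have b1 := congrArg (fun z => (cA h.EB (mkU _ (uni_one_add (a5 y) (a4 _ _))))⁻¹ z) hxy
    beta_reduce at b1
    rw [ra_inv_apply, ← map_inv, ← ra_mul, ← map_mul] at b1
    have b2 := cj_mul_eq ((mkU _ (uni_one_add (a5 y) (a4 _ _)))⁻¹ * mkU _ (uni_one_add (a5 x) (a4 _ _))) π
    rw [b1, Units.val_mul, star_eq_inv (u := mkU _ _) (uni_one_add (a5 y) (a4 _ _)), mkU_val, mkU_val, star_add, star_one,
      a5, add_mul, one_mul, neg_mul, mul_add (f.ι _ * N), a4, mul_one, add_zero, add_assoc, ← sub_eq_add_neg, ← sub_mul,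
      ← map_sub, mul_add, add_mul, mul_one, one_mul, add_right_inj] at b2
    exact b2.symm

variable (d : f.Dat F p l)
include d

omit d in
theorem three_le (h2 : finrank K E = 2) {v w : V} (hx : ∀ x, ∃ a b : E, x = a • v + b • w) : 3 ≤ Fintype.card K := by
  have h1 := finrank_le (K := K) hx
  have h3 := o.two
  rw [o.dim] at h1
  exact o.ne (by omega)

theorem sp_ne (h2 : finrank K E = 2) {θ : E} (hθ : f.σ θ ≠ θ) : False := by
  have s := KSp.so o
  obtain ⟨v₀, v0, hv⟩ := sing_ne s d hθ (by have := o.two; rw [o.dim]; omega)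
  obtain ⟨w₀, hw, h1, hx⟩ := span s d hv v0
  have h3 : f.β w₀ v₀ = -1 := by rw [f.β_swap s, h1, map_one, mul_one, map_neg, map_one]
  obtain ⟨v, a1, a2, a3⟩ : ∃ v, f.β v₀ v = 1 ∧ f.β v v₀ = -1 ∧ f.β v v ≠ 0 := ⟨θ • v₀ + w₀, by
    simp [f.β_add_right, f.β_smul_right, hv.1, h1], by simp [f.β_add_left, f.β_smul_left, hv.1, h3], fun e => hθ (by
      simp only [f.β_add_left, f.β_add_right, f.β_smul_left, f.β_smul_right, hv.1, hw.1, h1, h3] at e
      linear_combination -e)⟩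
  obtain ⟨g, hg, e⟩ := o.eich (e := v) (h.zero_left v) (-1)
  have e1 : (g : h.EB) = 1 + h.eb (h.ro v v) := h.ap_ext fun x => by
    rw [e, h.zero_right, h.ap_add, h.ap_one, h.ap_eb, h.ro_apply]; module
  have e2 : star (h.eb (h.ro v v)) = -h.eb (h.ro v v) := h.ap_ext fun x => by
    rw [s.star_ro, ap_neg, h.ap_eb, h.ro_apply]; module
  obtain ⟨P, S, hP⟩ := d.syl g hg
  obtain ⟨a, ha⟩ := f.exists_T a3
  have p1 := f.syl_comm S (π := f.τ v v) (a := a) (α := algebraMap K E (f.T (a * f.β v v))) ((map_ne_zero _).2 ha)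
    (fun u hu => hP u hu _ ⟨a, rfl⟩) (by
      rw [FR.Iso.cj_apply (F.comm_le_Iso hg), e1, star_add, star_one, e2, ← sub_eq_add_neg, f.av_conj, sub_right_inj,
        τ, ← f.av_left (f.ι_mem _)]
      refine congrArg _ (h.ap_ext fun x => ?_)
      simp only [h.ap_mul, h.ap_eb, h.ro_apply]
      rw [map_smul, h.smul_left, f.ap_ι, f.ap_ι, f.b_eq (a • v), f.β_smul_left]
      module)
  obtain ⟨_, ⟨y, rfl⟩, b1, b2⟩ := S.fix (LinearMap.range (h.ap (f.τ v v))).toAddSubgroup (by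
    rintro u hu _ ⟨y, rfl⟩
    exact ⟨_, (ap_comm (p1 u hu) y).symm⟩) (y := _) ⟨v₀, rfl⟩ (by
      rw [f.ap_τ, a1, one_smul]
      exact fun e => a3 (by rw [e, f.β_zero_left]))
  have b3 : ∀ x, h.ap (f.τ v v) x = 0 ↔ f.β x v = 0 := fun x => by
    rw [f.ap_τ, smul_eq_zero_iff_left fun e => a3 (by rw [e, f.β_zero_left])]
  obtain ⟨v'', b4, b5, b6⟩ := S.fix (LinearMap.ker (h.ap (f.τ v v))).toAddSubgroup (fun u hu x hx => by
      change h.ap _ _ = 0
      rw [← ap_comm (p1 u hu)]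
      exact (congrArg (h.ap u) hx).trans (map_zero _)) (y := f.β v v • v₀ - v)
    ((b3 _).2 (by rw [f.β_sub_left, f.β_smul_left, a1, mul_one, sub_self])) fun e => by
      simpa [f.β_sub_left, f.β_smul_left, hv.1, a2, f.β_zero_left] using congrArg (f.β · v₀) e
  have b7 := f.fix2 S (hx _) (hx _) b2 b6 (by
    rw [f.ap_τ, f.β_smul_left, f.β_smul_right]
    have b7 := (b3 y).not.1 b1
    exact mul_ne_zero b7 (mul_ne_zero ((map_ne_zero _).2 b7) a3)) (by
    rw [f.ap_τ, f.β_smul_right, (b3 _).1 b4, mul_zero]) b5 hv.1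
  have b8 := sp_fam o S hv.1 b7 p1 (algebraMap K E) (f.σ_alg s) fun x y hxy => by
    have b8 := congrArg (h.ap · v₀) hxy
    simp only [h.ap_mul, f.ap_τ, f.ap_ι, a1, a2, hv.1, one_smul, zero_smul, smul_zero, f.β_zero_left] at b8
    rw [smul_eq_zero_iff_left (smul_ne_zero (neg_ne_zero.2 one_ne_zero) v0), sub_eq_zero] at b8
    exact (algebraMap K E).injective b8
  have b9 := three_le o h2 fun x => ⟨_, _, hx x⟩
  rw [Nat.card_eq_fintype_card] at b8
  omega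

theorem sp_eq (hσ : ∀ θ, f.σ θ = θ) : False := by
  have s := KSp.so o
  have h0 : ∀ x, f.Sing F 0 x := fun x => ⟨by rw [f.β_self s d.mem d.L, hσ, map_neg, map_one]; ring, fun _ => zero_mul _⟩
  obtain ⟨v, v0⟩ := exists_ne (0 : V)
  obtain ⟨w, -, h1, hx⟩ := span s d (h0 v) v0
  have h2 := (lt_pow Fintype.one_lt_card d.prime.two_le fun e => three_le o e fun x => ⟨_, _, hx x⟩).trans_le f.pow_le_ker
  obtain ⟨b, b0, b1, b2⟩ : ∃ b : E, b ≠ 0 ∧ b ≠ -1 ∧ f.T b = 0 := by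
    have := Fintype.ofFinite (LinearMap.ker f.T)
    obtain ⟨x, y, z, a1, a2, a3⟩ := Fintype.two_lt_card_iff.1 ((d.prime.two_le.trans_lt h2).trans_eq Nat.card_eq_fintype_card)
    by_contra hc
    push Not at hc
    have a4 : ∀ t : LinearMap.ker f.T, t.1 = 0 ∨ t.1 = -1 := fun t => by have := hc t; have := t.2; tauto
    rw [Ne, Subtype.ext_iff] at a1 a2 a3
    rcases a4 x with e | e <;> rcases a4 y with e' | e' <;> rcases a4 z with e'' | e'' <;> rw [e] at a1 a2 <;>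
      rw [e'] at a1 a3 <;> rw [e''] at a2 a3 <;> contradiction
  obtain ⟨g, hg, e1, e2⟩ := f.exists_g s (h0 v) (h0 w) h1 b2 (Or.inl (hσ b))
  obtain ⟨P, S, hP⟩ := d.syl g hg
  obtain ⟨a, ha⟩ := f.exists_T b0
  obtain ⟨e, -, e0, he⟩ := S.fix ⊤ (fun _ _ _ _ => trivial) (y := v) trivial v0
  have a1 : ∀ y, (y = v ∨ y = w) → Set.MapsTo (h.ap (cA h.EB g (f.ι a))) {x | f.β x y = 0} {x | f.β x y = 0} :=
    fun y hy => cj_maps (fun x (hx' : _ = _) => by
      change f.β _ y = 0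
      rw [e1, ← algebraMap_smul E, ← algebraMap_smul E (_ * _), f.β_sub_left, f.β_add_left, f.β_smul_left,
        f.β_smul_left, f.β_smul_left]
      rcases hy with rfl | rfl <;> simp [hx', (h0 _).1])
      fun x (hx : _ = _) => by
      change f.β _ y = 0
      rw [f.ap_ι, f.β_smul_left, hx, mul_zero]
  have a2 : cA h.EB g (f.ι a) ∉ f.C := fun a2 => by
    have a3 := congrArg (h.ap · v) ((f.av_of_mem a2).symm.trans (e2 a))
    have a4 := ap_cj g (f.ι a) v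
    simp only [e1, f.ap_ι, f.β_smul_left, h1, (h0 _).1, mul_one, mul_zero, map_zero, b2, zero_smul, add_zero,
      sub_zero] at a4
    simp only [a4, h.ap_sub, h.ap_mul, h.ap_add, f.ap_ι, f.ap_τ, f.star_τ s, h1, (h0 _).1, mul_zero, zero_smul, add_zero,
      one_smul] at a3
    rw [mul_comm b, sub_eq_add_neg, add_right_inj, smul_assoc, ← smul_neg] at a3
    refine b1 (smul_left_injective E v0 ?_)
    change b • v = (-1 : E) • v
    exact (neg_eq_iff_eq_neg.1 (smul_right_injective V ha a3).symm).trans (neg_one_smul E v).symm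
  replace hP := fun u hu => hP u hu _ ⟨a, rfl⟩
  generalize cA h.EB g (f.ι a) = π at a1 a2 hP
  let B : Subalgebra K E :=
    { carrier := {t | f.ι t * π = π * f.ι t}
      mul_mem' := fun {x y} (hx : _ = _) (hy : _ = _) => show _ = _ by rw [map_mul, mul_assoc, hy, ← mul_assoc, hx, mul_assoc]
      add_mem' := fun {x y} (hx : _ = _) (hy : _ = _) => show _ = _ by rw [map_add, add_mul, hy, hx, mul_add]
      algebraMap_mem' := fun c => h.ap_ext fun x => by
        rw [h.ap_mul, h.ap_mul, f.ap_ι, f.ap_ι, algebraMap_smul, algebraMap_smul, map_smul] }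
  have a3 : B = ⊥ := ((Subalgebra.isSimpleOrder_of_finrank_prime K E d.prime).eq_bot_or_eq_top B).resolve_right
    fun e => a2 (f.mem_C.2 fun z => e.ge (Algebra.mem_top (x := z)))
  obtain ⟨c₁, c0, c1⟩ : ∃ c₁ : E, c₁ ≠ 0 ∧ ∀ c, f.ι c * f.τ e e * π = π * (f.ι c * f.τ e e) → ∃ t : K, c = t • c₁ := by
    by_cases c2 : ∃ c₁ : E, c₁ ≠ 0 ∧ f.ι c₁ * f.τ e e * π = π * (f.ι c₁ * f.τ e e)
    swap
    · exact ⟨1, one_ne_zero, fun c hc => ⟨0, by rw [zero_smul]; exact not_not.1 fun c0 => c2 ⟨c, c0, hc⟩⟩⟩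
    obtain ⟨c₁, c0, c1⟩ := c2
    refine ⟨c₁, c0, fun c hc => ?_⟩
    obtain ⟨t, rfl⟩ : ∃ t, c = t * c₁ := ⟨c / c₁, (div_mul_cancel₀ _ c0).symm⟩
    suffices c3 : t ∈ B by
      obtain ⟨t, rfl⟩ := Algebra.mem_bot.1 (a3.le c3)
      exact ⟨t, (Algebra.smul_def _ _).symm⟩
    have c3 : ∀ c, f.ι c * f.τ e e * π = π * (f.ι c * f.τ e e) → ∀ x,
        (c * f.β (h.ap π x) e) • e = h.ap π ((c * f.β x e) • e) := fun c hc x => by
      simpa only [h.ap_mul, f.ap_ι, f.ap_τ, smul_smul] using congrArg (h.ap · x) hc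
    have c4 : ∀ z : E, t • h.ap π (z • e) = h.ap π (t • z • e) := fun z => by
      obtain ⟨y, hy⟩ := f.exists_β e0
      have c4 : z = c₁ * f.β ((z / c₁) • y) e := by rw [f.β_smul_left, hy, mul_one, mul_div_cancel₀ _ c0]
      rw [c4, smul_smul, ← mul_assoc, ← c3 _ hc, ← c3 _ c1, smul_smul, mul_assoc]
    have c5 : ∀ x, f.β (t • h.ap π x - h.ap π (t • x)) e = 0 := fun x => by
      have c5 := (c3 _ c1 (t • x)).trans (by rw [f.β_smul_left, mul_left_comm, ← mul_assoc, ← c3 _ hc])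
      rw [f.β_sub_left, f.β_smul_left, sub_eq_zero]
      exact mul_left_cancel₀ c0 ((mul_left_comm _ _ _).trans ((mul_assoc _ _ _).symm.trans
        (smul_left_injective E e0 c5).symm))
    have c6 : ∀ y, (y = v ∨ y = w) → ∀ z : E, t • h.ap π (z • y) = h.ap π (t • z • y) := fun y hy z => by
      have c6 : ∀ x, f.β x y = 0 → ∃ z : E, x = z • y := fun x c6 => by
        rcases hy with rfl | rfl
        · exact ⟨_, (hx x).trans (by rw [c6, mul_zero, zero_smul, add_zero])⟩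
        · exact ⟨_, (hx x).trans (by rw [c6, zero_smul, zero_add])⟩
      by_cases c7 : f.β y e = 0
      · obtain ⟨z', c8⟩ := c6 e (f.orth s c7)
        rw [← div_mul_cancel₀ z (left_ne_zero_of_smul (c8 ▸ e0) : z' ≠ 0), mul_smul, ← c8, c4]
      obtain ⟨z', c8⟩ := c6 (t • h.ap π (z • y) - h.ap π (t • z • y)) (by
        rw [f.β_sub_left, f.β_smul_left, a1 y hy (show f.β (z • y) y = 0 by rw [f.β_smul_left, (h0 y).1, mul_zero]),
          a1 y hy (show f.β (t • z • y) y = 0 by rw [f.β_smul_left, f.β_smul_left, (h0 y).1, mul_zero, mul_zero]),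
          mul_zero, sub_zero])
      have c9 := c5 (z • y)
      rw [c8, f.β_smul_left, mul_eq_zero_iff_right c7] at c9
      rwa [c9, zero_smul, sub_eq_zero] at c8
    refine h.ap_ext fun x => ?_
    rw [h.ap_mul, h.ap_mul, f.ap_ι, f.ap_ι, hx x, smul_add, map_add, map_add, smul_add, c6 v (Or.inl rfl),
      c6 w (Or.inr rfl)]
  obtain ⟨z, hz⟩ := f.exists_T c0
  have z0 : z ≠ 0 := fun e => hz (by rw [e, zero_mul, map_zero])
  refine h2.not_ge (sp_fam o S (h0 e).1 he hP (fun x : LinearMap.ker f.T => x.1 / z) (fun _ => hσ _) fun x y hxy => ?_)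
  obtain ⟨t, ht⟩ := c1 _ hxy
  rw [← sub_div, div_eq_iff z0, smul_mul_assoc, mul_comm] at ht
  have a4 := congrArg f.T ht
  rw [map_sub, x.2, y.2, sub_zero, map_smul, eq_comm, smul_eq_zero_iff_left hz] at a4
  rw [a4, zero_smul, sub_eq_zero] at ht
  exact Subtype.ext ht

end Cfsg.Agent.TH.Cl.FSO.FE
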