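import Cfsg.Agent.TH.Cl.FldSO.Big
import Cfsg.Agent.H181.StdBasis

/-!
# S3541, symplectic and orthogonal groups: invariant fields of prime degree (helper94)

Singular vectors and hyperbolic pairs over the extension field.
-/

set_option autoImplicit false
set_option linter.unusedSectionVars false

namespace Cfsg.Agent.TH.Cl.FSO.FE

open Cfsg.Agent.DS.Cl Cfsg.Agent.DS.Cl.Fwd Cfsg.Agent.SB.Cl Cfsg.Agent.SB.C2 Module
open Cfsg.Agent.SB.Tor (ap_zero ap_inv_ap ap_ap_inv)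

local notation "cA" => Cfsg.Agent.DS.Cl.cj

variable {K V : Type} [Field K] [Fintype K] [AddCommGroup V] [Module K V] [Finite V] [Nontrivial V] {h : HF K V}
  {E : Type} [Field E] [Fintype E] [DecidableEq E] [Algebra K E] [Module E V] [IsScalarTower K E V] (f : FE h E)
  {F : FR h.EB} {s κ : K} {p : ℕ} {l : h.EB}

/-- an invariant field of prime degree -/
structure Dat (F : FR h.EB) (p : ℕ) (l : h.EB) : Prop where
  syl : AllSyl F f.ι.range (finrank K E) p
  mem : l ∈ f.C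
  L : F.l - l ∈ F.L
  prime : (finrank K E).Prime

theorem pow_le_ker : Fintype.card K ^ (finrank K E - 1) ≤ Nat.card (LinearMap.ker f.T) := by
  have h1 := f.T.finrank_range_add_finrank_ker
  have h2 := Submodule.finrank_le (LinearMap.range f.T)
  rw [finrank_self] at h2
  rw [Module.natCard_eq_pow_finrank (K := K), Nat.card_eq_fintype_card]
  exact Nat.pow_le_pow_right Fintype.card_pos (by omega)

theorem finrank_le {v w : V} (hx : ∀ x, ∃ a b : E, x = a • v + b • w) : finrank K V ≤ 2 * finrank K E := by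
  have : Module.Finite E V := Module.Finite.of_finite
  have h1 := (LinearMap.toSpanSingleton E V v).coprod (LinearMap.toSpanSingleton E V w) |>.finrank_range_le
  rw [LinearMap.range_eq_top.2 fun x => by
    obtain ⟨a, b, rfl⟩ := hx x
    exact ⟨(a, b), rfl⟩, finrank_top, finrank_prod, finrank_self] at h1
  rw [← finrank_mul_finrank K E V, mul_comm]
  exact Nat.mul_le_mul_right _ h1

variable {f} (o : SO h F s κ) (d : f.Dat F p l)
include o d

theorem fixK {θ : E} (hθ : f.σ θ ≠ θ) {u z : E} (u0 : u ≠ 0) {t : E} (hu : f.σ u = t * u) (hz : f.σ z = t * z) :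
    ∃ c : K, z = c • u := by
  have t0 : t ≠ 0 := fun e => u0 (by rwa [e, zero_mul, map_eq_zero] at hu)
  rcases (Subalgebra.isSimpleOrder_of_finrank_prime K E d.prime).eq_bot_or_eq_top
    (AlgHom.equalizer { f.σ with commutes' := f.σ_alg o } (AlgHom.id K E)) with e | e
  · obtain ⟨c, hc⟩ := Algebra.mem_bot.1 (e.le (show f.σ (z / u) = z / u by rw [map_div₀, hu, hz, mul_div_mul_left _ _ t0]))
    exact ⟨c, by rw [Algebra.smul_def, hc, div_mul_cancel₀ _ u0]⟩
  · exact absurd (e.ge (Algebra.mem_top (x := θ))) hθ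

theorem exists_b : ∃ b : E, b ≠ 0 ∧ f.T b = 0 ∧ (f.σ b = b ∨ f.σ b = -b) := by
  by_cases hσ : ∀ θ, f.σ θ = θ
  · have : Nontrivial (LinearMap.ker f.T) := Finite.one_lt_card_iff_nontrivial.1
      ((Nat.one_lt_pow (by have := d.prime.two_le; omega) Fintype.one_lt_card).trans_le f.pow_le_ker)
    obtain ⟨b, hb⟩ := exists_ne (0 : LinearMap.ker f.T)
    exact ⟨b, fun e => hb (Subtype.ext e), b.2, Or.inl (hσ _)⟩
  obtain ⟨θ, hθ⟩ := not_forall.1 hσ
  exact ⟨f.σ θ - θ, sub_ne_zero.2 hθ, by rw [map_sub, f.T_σ o, sub_self], Or.inr (by rw [map_sub, f.σ_σ, neg_sub])⟩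

theorem span {v : V} (hv : f.Sing F κ v) (v0 : v ≠ 0) : ∃ w, f.Sing F κ w ∧ f.β v w = 1 ∧
    ∀ x, x = f.β x w • v + (algebraMap K E s * f.β x v) • w := by
  obtain ⟨w, hw, h1⟩ := f.partner o d.mem d.L hv v0
  obtain ⟨b, b0, b1, b2⟩ := exists_b o d
  refine ⟨w, hw, h1, f.big o d.syl d.mem d.L ?_ b0 b1 b2 hv hw h1⟩
  rw [Module.card_eq_pow_finrank (K := K)]
  exact Nat.lt_pow_self Fintype.one_lt_card

theorem sing_ne {θ : E} (hθ : f.σ θ ≠ θ) (h3 : 3 ≤ finrank K V) : ∃ v, v ≠ 0 ∧ f.Sing F κ v := by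
  have : Module.Finite K V := Module.Finite.of_finite
  have h1 : f.σ (f.σ θ - θ) = -1 * (f.σ θ - θ) := by rw [map_sub, f.σ_σ]; ring
  obtain ⟨u, u0, hu⟩ : ∃ u : E, u ≠ 0 ∧ f.σ u = algebraMap K E s * u := by
    rcases o.alt with e | e <;> rw [e.1]
    · exact ⟨_, sub_ne_zero.2 hθ, by rw [h1, map_neg, map_one]⟩
    · exact ⟨1, one_ne_zero, by simp⟩
  obtain ⟨a, ha⟩ := f.exists_T u0
  obtain ⟨v, v0, hv⟩ := H181.StdBasis.exists_singular (LinearMap.BilinMap.toQuadraticMap (LinearMap.mk₂ K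
    (fun x y => h.b (a • x) y) (fun _ _ _ => by rw [smul_add, h.add_left]) (fun _ _ _ => by
      rw [smul_comm, h.smul_left, smul_eq_mul]) (fun _ _ _ => h.add_right _ _ _) fun _ _ _ => by
      rw [h.smul_right, o.tau, smul_eq_mul])) h3
  replace hv : h.b (a • v) v = 0 := hv
  obtain ⟨c, hc⟩ := fixK o d hθ u0 hu (z := f.β v v) (by
    conv_rhs => rw [f.β_swap o, ← mul_assoc, sE o, one_mul])
  rw [f.b_eq, f.β_smul_left, hc, mul_smul_comm, map_smul, smul_eq_zero_iff_left ha] at hv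
  rw [hv, zero_smul] at hc
  refine ⟨v, v0, hc, fun z => ?_⟩
  rw [f.qf_eq o d.mem d.L]
  rcases o.alt with e | e
  · rw [e.2, zero_mul]
  rw [f.β_self o d.mem d.L, e.1, map_one, one_mul] at hc
  obtain ⟨c, hc⟩ := fixK o d hθ (sub_ne_zero.2 hθ) h1 (z := z * f.σ z * f.β v (h.ap l v)) (by
    rw [map_mul, map_mul, f.σ_σ, eq_neg_of_add_eq_zero_right hc]; ring)
  rw [hc, map_smul, map_sub, f.T_σ o, sub_self, smul_zero, mul_zero]

theorem span_eq (hσ : ∀ θ, f.σ θ = θ) : ∃ v w : V, ∀ x, ∃ a b : E, x = a • v + b • w := by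
  have : Module.Finite E V := Module.Finite.of_finite
  by_cases h3 : 3 ≤ finrank E V
  · obtain ⟨v, v0, hv⟩ := H181.StdBasis.exists_singular (LinearMap.BilinMap.toQuadraticMap (LinearMap.mk₂ E
      (fun x y => f.β x (h.ap l y)) (fun _ _ _ => f.β_add_left _ _ _) (fun _ _ _ => f.β_smul_left _ _ _)
      (fun _ _ _ => by rw [map_add, f.β_add_right]) fun _ _ _ => by
        rw [f.lin d.mem, f.β_smul_right, hσ, smul_eq_mul])) h3
    obtain ⟨w, -, -, hx⟩ := span o d (f.sing_of_q o d.mem d.L hv) v0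
    exact ⟨v, w, fun x => ⟨_, _, hx x⟩⟩
  obtain ⟨φ, hφ⟩ := (finrank_le_iff_exists_linearMap (R := E) (M := V) (M' := E × E)).1 (by
    rw [finrank_prod, finrank_self]; omega)
  obtain ⟨ψ, hψ⟩ := φ.exists_leftInverse_of_injective (LinearMap.ker_eq_bot.2 hφ)
  refine ⟨ψ (1, 0), ψ (0, 1), fun x => ⟨(φ x).1, (φ x).2, ?_⟩⟩
  rw [← map_smul, ← map_smul, ← map_add, ← show ψ (φ x) = x from LinearMap.congr_fun hψ x]
  simp [show ψ (φ x) = x from LinearMap.congr_fun hψ x]

end Cfsg.Agent.TH.Cl.FSO.FE
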